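import Groth.Prelude.Def_SGA3x
import Groth.Agent.Lib.Hartogs3.Flat
import Groth.Agent.Lib.AlgSpDescent.SchemeSource

/-!
# Elementary properties of essentially free morphisms
-/

set_option autoImplicit false
set_option linter.style.haveILetI false
set_option backward.isDefEq.respectTransparency false
set_option backward.isDefEq.respectTransparency.types false
set_option maxSynthPendingDepth 3

universe u

open CategoryTheory Limits AlgebraicGeometry TensorProduct

noncomputable section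

namespace Groth.Agent.PureSmooth29

/-- The global sections of `h` form a projective module. -/
def RProj {V T : Scheme.{u}} (h : V ⟶ T) : Prop :=
  letI := h.appTop.hom.toAlgebra
  Module.Projective Γ(T, ⊤) Γ(V, ⊤)

theorem RProj.of_isPullback {V V' T T' : Scheme.{u}} [IsAffine V] [IsAffine T] [IsAffine T'] {fst : V' ⟶ V}
    {snd : V' ⟶ T'} {h : V ⟶ T} {g : T' ⟶ T} (sq : IsPullback fst snd h g) (hp : RProj h) : RProj snd := by
  have hP : IsPushout h.appTop g.appTop fst.appTop snd.appTop := isPushout_appTop_of_isPullback sq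
  unfold RProj at hp ⊢
  algebraize [h.appTop.hom, g.appTop.hom, fst.appTop.hom, snd.appTop.hom, fst.appTop.hom.comp h.appTop.hom]
  haveI : IsScalarTower Γ(T, ⊤) Γ(T', ⊤) Γ(V', ⊤) := .of_algebraMap_eq' <| congr($(hP.1.1).hom)
  haveI : Module.Projective Γ(T, ⊤) Γ(V, ⊤) := hp
  have h1 : Algebra.IsPushout Γ(T, ⊤) Γ(V, ⊤) Γ(T', ⊤) Γ(V', ⊤) := CommRingCat.isPushout_iff_isPushout.mp hP
  exact Module.Projective.of_equiv h1.symm.out.equiv

theorem RProj.flat {V T : Scheme.{u}} [IsAffine V] [IsAffine T] {h : V ⟶ T} (hp : RProj h) : Flat h := by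
  rw [HasRingHomProperty.iff_of_isAffine (P := @Flat)]
  unfold RProj at hp
  letI := h.appTop.hom.toAlgebra
  haveI := hp
  exact (inferInstance : Module.Flat Γ(T, ⊤) Γ(V, ⊤))

theorem flat_of_isEssentiallyFree {X S : Scheme.{u}} (f : X ⟶ S) (hf : SGA3x.IsEssentiallyFree f) : Flat f := by
  choose U hsU hU S' hS' g hg hgs hV using hf
  have hcov : ⨆ s, U s = ⊤ := top_le_iff.1 fun s _ => TopologicalSpace.Opens.mem_iSup.2 ⟨s, hsU s⟩
  refine (IsZariskiLocalAtTarget.iff_of_iSup_eq_top (P := @Flat) _ hcov).2 fun s => ?_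
  haveI := hS' s; haveI := hg s; haveI := hgs s
  choose V hxV hVaff hproj using hV s
  have h1 : Flat (pullback.snd f (g s ≫ (U s).ι)) := by
    refine (IsZariskiLocalAtSource.iff_of_openCover (P := @Flat)
      ((pullback f (g s ≫ (U s).ι)).openCoverOfIsOpenCover V
        (top_le_iff.1 fun x _ => TopologicalSpace.Opens.mem_iSup.2 ⟨x, hxV x⟩))).2 fun x => ?_
    haveI : IsAffine (V x).toScheme := hVaff x
    exact RProj.flat (h := (V x).ι ≫ pullback.snd f (g s ≫ (U s).ι)) (hproj x)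
  let f' := pullback.snd f (U s).ι
  haveI : Flat (pullback.snd f' (g s)) := by
    rw [← pullbackLeftPullbackSndIso_hom_snd]
    infer_instance
  haveI : Flat (pullback.fst f' (g s) ≫ f') := by rw [pullback.condition]; infer_instance
  haveI : Flat f' := AlgSpDescent.flat_of_comp_flat_surjective (pullback.fst f' (g s)) f'
  rw [← (isPullback_morphismRestrict f (U s)).flip.isoPullback_hom_snd]
  infer_instance

theorem isEssentiallyFree_of_artinian (A : Type u) [CommRing A] [IsArtinianRing A] {X : Scheme.{u}}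
    (f : X ⟶ Spec (CommRingCat.of A)) [Flat f] : SGA3x.IsEssentiallyFree f := by
  intro s
  haveI : DiscreteTopology ↥(Spec (CommRingCat.of A)) := inferInstanceAs (DiscreteTopology (PrimeSpectrum A))
  obtain ⟨U, hU, hsU, hUs⟩ := exists_isAffineOpen_mem_and_subset (X := Spec (CommRingCat.of A))
    (U := ⟨{s}, isOpen_discrete _⟩) (x := s) rfl
  haveI : IsAffine U.toScheme := hU
  refine ⟨U, hsU, hU, U.toScheme, hU, 𝟙 _, inferInstance, inferInstance, fun x => ?_⟩
  obtain ⟨V, hV, hxV, -⟩ := exists_isAffineOpen_mem_and_subset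
    (X := pullback f (𝟙 U.toScheme ≫ U.ι)) (U := ⊤) (x := x) trivial
  refine ⟨V, hxV, hV, ?_⟩
  haveI : IsAffine V.toScheme := hV
  let h := V.ι ≫ pullback.snd f (𝟙 U.toScheme ≫ U.ι)
  have hflat : h.appTop.hom.Flat := HasRingHomProperty.appTop @Flat h inferInstance
  letI := h.appTop.hom.toAlgebra
  haveI : Module.Flat Γ(↑U, ⊤) Γ(↑V, ⊤) := hflat
  haveI : IsLocallyNoetherian U.toScheme := inferInstance
  haveI : IsNoetherianRing Γ(↑U, ⊤) := IsLocallyNoetherian.component_noetherian ⟨⊤, isAffineOpen_top _⟩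
  haveI : Subsingleton (PrimeSpectrum Γ(↑U, ⊤)) := by
    haveI : Subsingleton U.toScheme := ⟨fun a b => Subtype.ext ((hUs a.2).trans (hUs b.2).symm)⟩
    exact U.toScheme.isoSpec.hom.surjective.subsingleton
  haveI : Nontrivial Γ(↑U, ⊤) :=
    PrimeSpectrum.nonempty_iff_nontrivial.mp ⟨U.toScheme.isoSpec.hom ⟨s, hsU⟩⟩
  haveI : IsLocalRing Γ(↑U, ⊤) := by
    obtain ⟨m, hm⟩ := Ideal.exists_maximal Γ(↑U, ⊤)
    exact IsLocalRing.of_unique_max_ideal ⟨m, hm, fun m' hm' =>
      congrArg PrimeSpectrum.asIdeal (Subsingleton.elim (⟨m', hm'.isPrime⟩ : PrimeSpectrum _) ⟨m, hm.isPrime⟩)⟩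
  have hnil : IsNilpotent (IsLocalRing.maximalIdeal Γ(↑U, ⊤)) := by
    refine (Ideal.FG.isNilpotent_iff_le_nilradical (IsNoetherian.noetherian _)).2 ?_
    rw [nilradical_eq_sInf]
    exact le_sInf fun P (hP : P.IsPrime) => le_of_eq (congrArg PrimeSpectrum.asIdeal
      (Subsingleton.elim (IsLocalRing.closedPoint Γ(↑U, ⊤)) ⟨P, hP⟩))
  haveI := Hartogs3.free_of_flat hnil Γ(↑V, ⊤)
  exact (inferInstance : Module.Projective Γ(↑U, ⊤) Γ(↑V, ⊤))

theorem flat_of_field (k : Type u) [Field k] {X : Scheme.{u}} (f : X ⟶ Spec (CommRingCat.of k)) : Flat f := by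
  haveI : IsAffine (Spec (CommRingCat.of k)) := inferInstance
  refine (HasRingHomProperty.iff_of_iSup_eq_top (P := @Flat) (fun V : X.affineOpens => V)
    (iSup_affineOpens_eq_top X)).2 fun V => ?_
  letI := (f.appLE ⊤ V.1 le_top).hom.toAlgebra
  letI : Field Γ(Spec (CommRingCat.of k), ⊤) :=
    ((Scheme.ΓSpecIso (CommRingCat.of k)).commRingCatIsoToRingEquiv.toMulEquiv.isField (Field.toIsField k)).toField
  exact (inferInstance : Module.Flat Γ(Spec (CommRingCat.of k), ⊤) Γ(X, V.1))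

theorem isEssentiallyFree_baseChange {X S T : Scheme.{u}} (f : X ⟶ S) (g : T ⟶ S)
    (hf : SGA3x.IsEssentiallyFree f) : SGA3x.IsEssentiallyFree (pullback.snd f g) := by
  intro t
  obtain ⟨U, hsU, hU, S₀, hS₀, g₀, hg₀, hg₀s, hV⟩ := hf (g t)
  obtain ⟨U', hU', htU', hle⟩ := exists_isAffineOpen_mem_and_subset (U := g ⁻¹ᵁ U) (x := t) hsU
  haveI : IsAffine U.toScheme := hU
  haveI : IsAffine U'.toScheme := hU'
  haveI := hS₀; haveI := hg₀; haveI := hg₀s
  let r := g.resLE U U' hle
  let π := pullback.fst g₀ r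
  let g'' := pullback.snd g₀ r
  haveI : IsAffine (pullback g₀ r) := inferInstance
  refine ⟨U', htU', hU', pullback g₀ r, inferInstance, g'', inferInstance, inferInstance, fun x => ?_⟩
  have hk : (g'' ≫ U'.ι) ≫ g = π ≫ g₀ ≫ U.ι := by
    simp only [g'', π, Category.assoc]
    rw [← Scheme.Hom.resLE_comp_ι g hle, ← Category.assoc, ← pullback.condition, Category.assoc]
  have h1 : IsPullback (pullback.fst (pullback.snd f g) (g'' ≫ U'.ι) ≫ pullback.fst f g)
      (pullback.snd (pullback.snd f g) (g'' ≫ U'.ι)) f ((g'' ≫ U'.ι) ≫ g) :=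
    IsPullback.paste_horiz (IsPullback.of_hasPullback _ _) (IsPullback.of_hasPullback _ _)
  rw [hk] at h1
  let m : pullback (pullback.snd f g) (g'' ≫ U'.ι) ⟶ pullback f (g₀ ≫ U.ι) :=
    pullback.lift (pullback.fst (pullback.snd f g) (g'' ≫ U'.ι) ≫ pullback.fst f g)
      (pullback.snd (pullback.snd f g) (g'' ≫ U'.ι) ≫ π) (by simpa only [Category.assoc] using h1.w)
  have h2 : IsPullback m (pullback.snd (pullback.snd f g) (g'' ≫ U'.ι)) (pullback.snd f (g₀ ≫ U.ι)) π := by
    refine IsPullback.of_right ?_ (pullback.lift_snd _ _ _) (IsPullback.of_hasPullback f (g₀ ≫ U.ι))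
    rwa [pullback.lift_fst]
  haveI : IsAffineHom m := MorphismProperty.of_isPullback h2.flip (inferInstance : IsAffineHom π)
  obtain ⟨V, hxV, hVaff, hproj⟩ := hV (m x)
  refine ⟨m ⁻¹ᵁ V, hxV, hVaff.preimage m, ?_⟩
  haveI : IsAffine V.toScheme := hVaff
  exact RProj.of_isPullback ((isPullback_morphismRestrict m V).paste_vert h2) hproj

end Groth.Agent.PureSmooth29
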