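import Groth.Agent.Lib.PureSmooth29.Subgroup
import Groth.Agent.Lib.MTRigid29.CentralizerNormalizer

/-!
# Loci where a family of homomorphisms from a smooth connected group lands in a subgroup
-/

set_option autoImplicit false
set_option linter.style.haveILetI false
set_option backward.isDefEq.respectTransparency false
set_option backward.isDefEq.respectTransparency.types false
set_option maxSynthPendingDepth 3

universe u

open CategoryTheory Limits AlgebraicGeometry MonoidalCategory CartesianMonoidalCategory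
open scoped MonObj GrpObj

noncomputable section

namespace Groth.Agent.PureSmooth29

variable {S : Scheme.{u}}

/-- A point of a base change as a point over the original base. -/
def bcPoint {B : Scheme.{u}} (f : B ⟶ S) (H : Over S) {Z : Over B} (a : Z ⟶ Red.bc f H) :
    Over.mk (Z.hom ≫ f) ⟶ H :=
  Over.homMk (a.left ≫ pullback.fst H.hom f) (by
    show (a.left ≫ pullback.fst H.hom f) ≫ H.hom = Z.hom ≫ f
    rw [Category.assoc, pullback.condition, ← Category.assoc]
    exact congrArg (· ≫ f) (Over.w a))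

theorem bcPoint_mul {B : Scheme.{u}} (f : B ⟶ S) (H : Over S) [GrpObj H] {Z : Over B} (a b : Z ⟶ Red.bc f H) :
    bcPoint f H (a * b) = bcPoint f H a * bcPoint f H b := by
  apply Over.OverMorphism.ext
  rw [Hom.mul_def, Hom.mul_def, Over.comp_left]
  show ((lift a b).left ≫ (Functor.LaxMonoidal.μ (Over.pullback f) H H ≫ (Over.pullback f).map μ[H]).left) ≫ _ = _
  simp only [Over.comp_left, Category.assoc]
  rw [show ((Over.pullback f).map μ[H]).left ≫ pullback.fst H.hom f = pullback.fst (H ⊗ H).hom f ≫ (μ[H]).left by simp]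
  simp only [← Category.assoc]
  congr 1
  apply pullback.hom_ext
  · simp only [Category.assoc]
    erw [Over.μ_pullback_left_fst_fst]
    simp [bcPoint]
  · simp only [Category.assoc]
    erw [Over.μ_pullback_left_fst_snd]
    simp [bcPoint]

/-- The points where a family of homomorphisms lands in a subgroup form a closed subscheme. -/
theorem exists_transporter_subgroup {G H P K : Over S} [GrpObj H] [GrpObj P] [GrpObj K]
    [Smooth H.hom] [QuasiSeparated H.hom] (hn : SGA3x.neutralSet H = Set.univ)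
    (j : K ⟶ P) [IsMonHom j] [Mono j] [LocallyOfFinitePresentation j.left] [QuasiCompact j.left]
    [QuasiCompact H.hom] (φ : H ⊗ G ⟶ P)
    (hφ : ∀ (T : Over S) (h h' : T ⟶ H) (g : T ⟶ G), lift (h * h') g ≫ φ = (lift h g ≫ φ) * (lift h' g ≫ φ)) :
    ∃ (C : Over S) (c : C ⟶ G), IsClosedImmersion c.left ∧ LocallyOfFinitePresentation c.left ∧
      ∀ (X : Over S) (g : X ⟶ G), (∃ z : X ⟶ C, z ≫ c = g) ↔
        ∀ (X' : Over S) (x : X' ⟶ X) (h : X' ⟶ H), ∃ κ : X' ⟶ K, lift h (x ≫ g) ≫ φ = κ ≫ j := by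
  let X₁ : Over G.left := Red.bc G.hom H
  let w : pullback φ.left j.left ⟶ X₁.left := pullback.fst φ.left j.left
  let Y₁ : Over G.left := Over.mk (w ≫ X₁.hom)
  let i₁ : Y₁ ⟶ X₁ := Over.homMk w
  haveI : Mono w := inferInstanceAs (Mono (pullback.fst φ.left j.left))
  haveI : Mono i₁ := Over.mono_of_mono_left i₁
  haveI : Smooth X₁.hom := inferInstanceAs (Smooth (pullback.snd H.hom G.hom))
  haveI : QuasiSeparated X₁.hom := inferInstanceAs (QuasiSeparated (pullback.snd H.hom G.hom))
  haveI : QuasiCompact X₁.hom := inferInstanceAs (QuasiCompact (pullback.snd H.hom G.hom))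
  have hlift : ∀ (Z : Over G.left) (a : Z ⟶ X₁),
      (lift (bcPoint G.hom H a) (Over.homMk Z.hom : Over.mk (Z.hom ≫ G.hom) ⟶ G)).left = a.left := by
    intro Z a
    apply pullback.hom_ext
    · simp [bcPoint]
    · simp
      exact (Over.w a).symm
  have hcond : ∀ (Z : Over G.left) (a : Z ⟶ X₁), (∃ c : Z ⟶ Y₁, c ≫ i₁ = a) ↔
      ∃ κ : Over.mk (Z.hom ≫ G.hom) ⟶ K,
        lift (bcPoint G.hom H a) (Over.homMk Z.hom : Over.mk (Z.hom ≫ G.hom) ⟶ G) ≫ φ = κ ≫ j := by
    intro Z a
    constructor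
    · rintro ⟨c, rfl⟩
      have h : (c.left ≫ pullback.snd φ.left j.left) ≫ j.left = (lift (bcPoint G.hom H (c ≫ i₁))
          (Over.homMk Z.hom : Over.mk (Z.hom ≫ G.hom) ⟶ G) ≫ φ).left := by
        rw [Category.assoc, ← pullback.condition, Over.comp_left, hlift, Over.comp_left, Category.assoc]
        rfl
      refine ⟨Over.homMk (c.left ≫ pullback.snd φ.left j.left) ?_, Over.OverMorphism.ext h.symm⟩
      rw [← Over.w j, ← Category.assoc, h, Over.w]
    · rintro ⟨κ, hκ⟩
      have h : a.left ≫ φ.left = κ.left ≫ j.left := by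
        rw [← hlift Z a]; exact congrArg CommaMorphism.left hκ
      exact ⟨Over.homMk (pullback.lift a.left κ.left h) (by
        show pullback.lift a.left κ.left h ≫ w ≫ X₁.hom = Z.hom
        rw [pullback.lift_fst_assoc]; exact Over.w a), Over.OverMorphism.ext (pullback.lift_fst _ _ _)⟩
  have hm : ∀ (Z : Over G.left) (a b : Z ⟶ X₁),
      lift (bcPoint G.hom H (a * b)) (Over.homMk Z.hom : Over.mk (Z.hom ≫ G.hom) ⟶ G) ≫ φ =
        (lift (bcPoint G.hom H a) (Over.homMk Z.hom : Over.mk (Z.hom ≫ G.hom) ⟶ G) ≫ φ) *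
          (lift (bcPoint G.hom H b) (Over.homMk Z.hom : Over.mk (Z.hom ≫ G.hom) ⟶ G) ≫ φ) := fun Z a b => by
    rw [bcPoint_mul, hφ]
  let ψ : ∀ Z : Over G.left, (Z ⟶ X₁) →* (Over.mk (Z.hom ≫ G.hom) ⟶ P) := fun Z => MonoidHom.mk'
    (fun a => lift (bcPoint G.hom H a) (Over.homMk Z.hom : Over.mk (Z.hom ≫ G.hom) ⟶ G) ≫ φ) (hm Z)
  obtain ⟨_, _⟩ := MTRigid29.exists_grpObj_of_subgroup i₁
    (fun Z a b => (hcond Z _).2 (by
      obtain ⟨κ, hκ⟩ := (hcond Z _).1 ⟨a, rfl⟩
      obtain ⟨κ', hκ'⟩ := (hcond Z _).1 ⟨b, rfl⟩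
      exact ⟨κ * κ', by rw [hm, hκ, hκ', MonObj.mul_comp]⟩))
    ((hcond _ _).2 ⟨1, by rw [MonObj.one_comp]; exact (ψ (𝟙_ (Over G.left))).map_one⟩)
    (fun Z a => (hcond Z _).2 (by
      obtain ⟨κ, hκ⟩ := (hcond Z _).1 ⟨a, rfl⟩
      exact ⟨κ⁻¹, by rw [GrpObj.inv_comp, ← hκ]; exact (ψ Z).map_inv _⟩))
  haveI : LocallyOfFinitePresentation Y₁.hom := by
    show LocallyOfFinitePresentation (w ≫ X₁.hom)
    haveI : LocallyOfFinitePresentation w := MorphismProperty.pullback_fst _ _ ‹_›
    infer_instance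
  haveI : QuasiCompact Y₁.hom := by
    show QuasiCompact (w ≫ X₁.hom)
    haveI : QuasiCompact w := MorphismProperty.pullback_fst _ _ ‹_›
    infer_instance
  obtain ⟨T, t, ht, hfp, hrep⟩ := exists_closed_subgroup i₁ (by
    rw [GrpNeutral20.neutralSet_bc H G.hom, hn]; rfl)
  refine ⟨Over.mk (t ≫ G.hom), Over.homMk t, ht, hfp, fun X g => ?_⟩
  let f : (H ⊗ G).left ⟶ G.left := pullback.snd H.hom G.hom
  have h0 : (∃ z : X ⟶ Over.mk (t ≫ G.hom), z ≫ Over.homMk t = g) ↔ Fac f w g.left := by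
    refine Iff.trans ?_ (hrep _ g.left)
    constructor
    · rintro ⟨z, rfl⟩
      exact ⟨z.left, rfl⟩
    · rintro ⟨z, hz⟩
      exact ⟨Over.homMk z (by show z ≫ t ≫ G.hom = X.hom; rw [reassoc_of% hz, Over.w g]), Over.OverMorphism.ext hz⟩
  rw [h0]
  constructor
  · rintro ⟨l, hl⟩ X' x a
    let p := lift a (x ≫ g)
    let q : X'.left ⟶ pullback f g.left := pullback.lift p.left x.left
      (congrArg CommaMorphism.left (lift_snd a (x ≫ g)))
    have hq : (q ≫ l ≫ pullback.snd φ.left j.left) ≫ j.left = (p ≫ φ).left := by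
      simp only [Category.assoc, Over.comp_left, ← pullback.condition]
      rw [show l ≫ pullback.fst φ.left j.left ≫ φ.left = pullback.fst f g.left ≫ φ.left from by
        rw [← Category.assoc]; exact congrArg (· ≫ φ.left) hl]
      rw [pullback.lift_fst_assoc]
    refine ⟨Over.homMk (q ≫ l ≫ pullback.snd φ.left j.left) ?_, Over.OverMorphism.ext hq.symm⟩
    rw [← Over.w j, ← Category.assoc, hq, Over.w]
  · intro h
    let X' : Over S := Over.mk (pullback.snd f g.left ≫ X.hom)
    let x : X' ⟶ X := Over.homMk (pullback.snd f g.left)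
    let p : X' ⟶ H ⊗ G := Over.homMk (pullback.fst f g.left) (by
      show pullback.fst f g.left ≫ (H ⊗ G).hom = pullback.snd f g.left ≫ X.hom
      rw [← Over.w (snd H G), ← Category.assoc]
      show (pullback.fst f g.left ≫ f) ≫ G.hom = _
      rw [pullback.condition, Category.assoc, Over.w g])
    obtain ⟨κ, hκ⟩ := h X' x (p ≫ fst H G)
    have hp : lift (p ≫ fst H G) (x ≫ g) = p := by
      apply CartesianMonoidalCategory.hom_ext
      · rw [lift_fst]
      · rw [lift_snd]
        exact Over.OverMorphism.ext pullback.condition.symm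
    rw [hp] at hκ
    exact ⟨pullback.lift (pullback.fst f g.left) κ.left (congrArg CommaMorphism.left hκ), pullback.lift_fst _ _ _⟩

end Groth.Agent.PureSmooth29
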