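import Groth.Agent.Lib.GrpNeutral20.Div
import Groth.Agent.Lib.GrpNeutral20.Smooth
import Mathlib.AlgebraicGeometry.Morphisms.FlatDescent

/-!
# A subgroup containing an open neighbourhood of the unit section of a connected group
-/

set_option autoImplicit false
set_option linter.style.haveILetI false
set_option backward.isDefEq.respectTransparency false
set_option backward.isDefEq.respectTransparency.types false
set_option maxSynthPendingDepth 3

universe u

open CategoryTheory Limits AlgebraicGeometry MonoidalCategory CartesianMonoidalCategory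
open scoped MonObj GrpObj

noncomputable section

namespace Groth.Agent.PureSmooth29

/-- A monomorphism through which an fppf cover factors is an isomorphism. -/
theorem isIso_of_cover {W X Y : Scheme.{u}} (i : Y ⟶ X) [Mono i] (π : W ⟶ X) [Surjective π] [Flat π]
    [LocallyOfFinitePresentation π] (m : W ⟶ Y) (hm : m ≫ i = π) : IsIso i := by
  let q := pullback.snd i π
  have hsec : pullback.lift m (𝟙 W) (by rw [hm, Category.id_comp]) ≫ q = 𝟙 W := pullback.lift_snd _ _ _
  haveI : Mono q := inferInstance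
  haveI : IsIso q := ⟨_, (cancel_mono q).mp (by rw [Category.assoc, hsec, Category.comp_id, Category.id_comp]), hsec⟩
  exact MorphismProperty.of_pullback_snd_of_descendsAlong (P := MorphismProperty.isomorphisms Scheme)
    (Q := @Surjective ⊓ @Flat ⊓ @LocallyOfFinitePresentation) (f := i) (g := π)
    ⟨⟨inferInstance, inferInstance⟩, inferInstance⟩ ‹IsIso q›

variable {T : Scheme.{u}} {X Y : Over T} [GrpObj X] [GrpObj Y] (i : Y ⟶ X) [IsMonHom i] [Mono i.left]

/-- A subgroup containing an open around the unit section of a smooth connected group is everything. -/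
theorem isIso_of_open [Smooth X.hom] (hn : SGA3x.neutralSet X = Set.univ) (U : X.left.Opens)
    (hU : ∀ t : T, η[X].left t ∈ U) (l : U.toScheme ⟶ Y.left) (hl : l ≫ i.left = U.ι) : IsIso i.left := by
  let D : X ⊗ X ⟶ X := (𝟙 X ⊗ₘ ι[X]) ≫ μ[X]
  let O : (X ⊗ X).left.Opens := (fst X X).left ⁻¹ᵁ U ⊓ (snd X X).left ⁻¹ᵁ U
  haveI : Smooth (O.ι ≫ D.left) := by
    haveI : Smooth (((snd X X).left ⁻¹ᵁ U).ι ≫ D.left) := (GrpNeutral20.smooth_div X U).1
    rw [← Scheme.homOfLE_ι _ (show O ≤ (snd X X).left ⁻¹ᵁ U from inf_le_right), Category.assoc]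
    infer_instance
  haveI : Surjective (O.ι ≫ D.left) := by
    refine ⟨fun x => ?_⟩
    obtain ⟨z, h1, h2, h3, -⟩ := GrpNeutral20.exists_div X
      (fun s => inferInstanceAs (LocallyOfFiniteType (pullback.snd X.hom (T.fromSpecResidueField s))))
      (hn.ge (Set.mem_univ x)) U (hU _)
    exact ⟨⟨z, h1, h2⟩, h3⟩
  let Uo : Over T := Over.mk (O.ι ≫ (X ⊗ X).hom)
  let e : Uo ⟶ X ⊗ X := Over.homMk O.ι rfl
  have hlift : ∀ a : Uo ⟶ X, (∀ z, a.left z ∈ U) → ∃ a' : Uo ⟶ Y, a' ≫ i = a := fun a ha => by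
    let b := IsOpenImmersion.lift U.ι a.left (by rintro _ ⟨z, rfl⟩; rw [Scheme.Opens.range_ι]; exact ha z)
    have hb : (b ≫ l) ≫ i.left = a.left := by rw [Category.assoc, hl, IsOpenImmersion.lift_fac]
    exact ⟨Over.homMk (b ≫ l) (by rw [← Over.w i, ← Category.assoc, hb, Over.w a]), Over.OverMorphism.ext hb⟩
  obtain ⟨a', ha'⟩ := hlift (e ≫ fst X X) fun z => z.2.1
  obtain ⟨b', hb'⟩ := hlift (e ≫ snd X X) fun z => z.2.2
  have key : ((lift a' b') ≫ (𝟙 Y ⊗ₘ ι[Y]) ≫ μ[Y]) ≫ i = e ≫ D := by
    have he : e = lift (e ≫ fst X X) (e ≫ snd X X) := by simp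
    rw [he, ← ha', ← hb', Category.assoc, Category.assoc, IsMonHom.mul_hom, ← Category.assoc _ (i ⊗ₘ i),
      tensorHom_comp_tensorHom, Category.id_comp, GrpObj.inv_hom]
    simp [D, lift_map_assoc]
  exact isIso_of_cover i.left (O.ι ≫ D.left) _ (congrArg CommaMorphism.left key)

end Groth.Agent.PureSmooth29
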