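import Groth.Agent.Lib.PureSmooth29.Main
import Groth.Agent.Lib.PureSmooth29.SubgroupIso
import Groth.Agent.Lib.SectionCompFlat4
import Groth.Agent.Lib.AbSchRigid22.Basic
import Groth.Agent.Lib.SchBasic.Basic
import Mathlib.AlgebraicGeometry.ZariskisMainTheorem

/-!
# Closed Weil restriction of a subgroup along a smooth connected group
-/

set_option autoImplicit false
set_option linter.style.haveILetI false
set_option backward.isDefEq.respectTransparency false
set_option backward.isDefEq.respectTransparency.types false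
set_option maxSynthPendingDepth 3

universe u

open CategoryTheory Limits AlgebraicGeometry MonoidalCategory CartesianMonoidalCategory
open scoped MonObj GrpObj

noncomputable section

namespace Groth.Agent.PureSmooth29

theorem prop_map (P : MorphismProperty Scheme.{u}) [P.IsStableUnderBaseChange] {A B S T : Scheme.{u}}
    (v : A ⟶ B) (b : B ⟶ S) (t : T ⟶ S) (hv : P v) :
    P (pullback.map (v ≫ b) t b t v (𝟙 T) (𝟙 S) (by simp) (by simp)) := by
  have sq : IsPullback (pullback.map (v ≫ b) t b t v (𝟙 T) (𝟙 S) (by simp) (by simp))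
      (pullback.fst (v ≫ b) t) (pullback.fst b t) v := by
    refine IsPullback.of_right ?_ (pullback.lift_fst _ _ _) (IsPullback.of_hasPullback b t).flip
    rw [pullback.lift_snd, Category.comp_id]
    exact (IsPullback.of_hasPullback (v ≫ b) t).flip
  exact MorphismProperty.of_isPullback sq.flip hv

variable {S : Scheme.{u}} {X Y : Over S} [GrpObj X] [GrpObj Y] (i : Y ⟶ X) [IsMonHom i] [Mono i]

/-- Near a lift of the unit, factorisation through the subgroup is factorisation through the finite piece. -/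
theorem fac_subgroup_iff [Smooth X.hom] (hn : SGA3x.neutralSet X = Set.univ) {B : Scheme.{u}} (k : B ⟶ S)
    {X' : Scheme.{u}} (g : X' ⟶ X.left) [Etale g] (V : (pullback i.left g).Opens)
    (hV : IsClosed (V : Set ↥(pullback i.left g))) (h : B ⟶ X') (hh : h ≫ g = k ≫ η[X].left)
    (hl : ∀ b, ∃ v ∈ V, pullback.snd i.left g v = h b) (E : (pullback (g ≫ X.hom) k).Opens)
    [GeometricallyConnected (E.ι ≫ pullback.snd (g ≫ X.hom) k)] (σ : B ⟶ E.toScheme)
    (hσ : σ ≫ E.ι = pullback.lift h (𝟙 _) (by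
      rw [reassoc_of% hh, Over.w η[X], Category.id_comp]; exact Category.comp_id _))
    {T : Scheme.{u}} (h0 : T ⟶ B) :
    Fac X.hom i.left (h0 ≫ k) ↔ Fac (E.ι ≫ pullback.snd (g ≫ X.hom) k)
      (pullback.snd (V.ι ≫ pullback.snd i.left g) (E.ι ≫ pullback.fst (g ≫ X.hom) k)) h0 := by
  let t := h0 ≫ k
  let f := E.ι ≫ pullback.snd (g ≫ X.hom) k
  let a := E.ι ≫ pullback.fst (g ≫ X.hom) k
  let pr := pullback.fst f h0 ≫ a
  have hpr : pr ≫ g ≫ X.hom = pullback.snd f h0 ≫ t := by
    simp only [pr, a, t, Category.assoc]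
    rw [← pullback.condition_assoc (f := f)]
    simp only [f, Category.assoc, pullback.condition]
  let u : pullback f h0 ⟶ pullback X.hom t :=
    pullback.lift (pr ≫ g) (pullback.snd f h0) (by rw [Category.assoc, hpr])
  have hσf : σ ≫ f = 𝟙 _ := by simp only [f, reassoc_of% hσ, pullback.lift_snd]
  have hσa : σ ≫ a = h := by simp only [a, reassoc_of% hσ, pullback.lift_fst]
  let σT : T ⟶ pullback f h0 := pullback.lift (h0 ≫ σ) (𝟙 _) (by rw [Category.assoc, hσf]; simp)
  have hσpr : σT ≫ pr = h0 ≫ h := by simp only [σT, pr, pullback.lift_fst_assoc, Category.assoc, hσa]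
  constructor
  · rintro ⟨L, hL⟩
    let m : pullback f h0 ⟶ pullback i.left g := pullback.lift (u ≫ L) pr (by
      rw [Category.assoc, hL, pullback.lift_fst])
    have hm : ∀ z, m z ∈ V := fun z => by
      let τ := pullback.snd f h0 z
      have hclopen : IsClopen (m.base ⁻¹' (V : Set ↥(pullback i.left g))) :=
        ⟨hV.preimage m.continuous, V.2.preimage m.continuous⟩
      refine ((Scheme.Hom.isConnected_preimage_singleton (pullback.snd f h0) τ).isPreconnected.subset_isClopen
        hclopen ⟨σT τ, ?_, ?_⟩) (show z ∈ pullback.snd f h0 ⁻¹' {τ} from rfl)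
      · show pullback.snd f h0 (σT τ) = τ
        rw [← Scheme.Hom.comp_apply, pullback.lift_snd]
        rfl
      · obtain ⟨v, hv, hvh⟩ := hl (h0 τ)
        show m (σT τ) ∈ V
        convert hv
        refine (pullback.snd i.left g).injective ?_
        rw [← Scheme.Hom.comp_apply m, pullback.lift_snd, hvh, ← Scheme.Hom.comp_apply, hσpr,
          Scheme.Hom.comp_apply]
    let mV := IsOpenImmersion.lift V.ι m (by rintro _ ⟨z, rfl⟩; rw [Scheme.Opens.range_ι]; exact hm z)
    exact ⟨pullback.lift mV (pullback.fst f h0) (by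
      simp only [mV, IsOpenImmersion.lift_fac_assoc, m, pullback.lift_snd, pr, a]), pullback.lift_snd _ _ _⟩
  · rintro ⟨l, hl'⟩
    let mY := l ≫ pullback.fst (V.ι ≫ pullback.snd i.left g) a ≫ V.ι ≫ pullback.fst i.left g
    have hmY : mY ≫ i.left = pr ≫ g := by
      simp only [mY, Category.assoc, pullback.condition]
      rw [← Category.assoc V.ι, pullback.condition_assoc, reassoc_of% hl']
      simp only [pr, a, f, Category.assoc]
    let iT : Red.bc t Y ⟶ Red.bc t X := (Over.pullback t).map i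
    haveI : IsMonHom iT := inferInstanceAs (IsMonHom ((Over.pullback t).map i))
    haveI : Mono iT.left := inferInstanceAs (Mono ((Over.pullback t).map i).left)
    have hiT : iT.left ≫ pullback.fst X.hom t = pullback.fst Y.hom t ≫ i.left := by
      simp [iT]
    let mt : pullback f h0 ⟶ (Red.bc t Y).left := pullback.lift mY (pullback.snd f h0) (by
      rw [← Over.w i, reassoc_of% hmY, hpr])
    have hmt : mt ≫ iT.left = u := by
      apply pullback.hom_ext
      · rw [Category.assoc, hiT, pullback.lift_fst_assoc, hmY, pullback.lift_fst]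
      · rw [Category.assoc, show iT.left ≫ pullback.snd X.hom t = pullback.snd Y.hom t from Over.w iT,
          pullback.lift_snd, pullback.lift_snd]
    haveI : Etale u := by
      let m1 := pullback.map f h0 (pullback.snd (g ≫ X.hom) k) h0 E.ι (𝟙 _) (𝟙 _) (by simp [f]) (by simp)
      let m2 := pullback.map (g ≫ X.hom) t X.hom t g (𝟙 _) (𝟙 _) (by simp) (by simp)
      haveI : IsOpenImmersion m1 := prop_map @IsOpenImmersion E.ι (pullback.snd (g ≫ X.hom) k) h0 inferInstance
      haveI : Etale m2 := prop_map @Etale g X.hom t inferInstance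
      have : u = m1 ≫ (pullbackLeftPullbackSndIso (g ≫ X.hom) k h0).hom ≫ m2 := by
        apply pullback.hom_ext <;> simp [u, m1, m2, pr, a, f, t]
      rw [this]
      infer_instance
    let U : (Red.bc t X).left.Opens := ⟨Set.range u, u.isOpenMap.isOpen_range⟩
    let u' : pullback f h0 ⟶ U.toScheme := IsOpenImmersion.lift U.ι u (by rw [Scheme.Opens.range_ι]; rfl)
    have hu' : u' ≫ U.ι = u := IsOpenImmersion.lift_fac _ _ _
    haveI : Etale u' := by
      have sq : IsPullback (𝟙 _) u' u U.ι :=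
        IsPullback.of_isLimit' ⟨(Category.id_comp _).trans hu'.symm⟩ (PullbackCone.IsLimit.mk _
          (fun c => c.fst) (fun c => Category.comp_id _) (fun c => by
            rw [← cancel_mono U.ι, Category.assoc, hu']; exact c.condition)
          (fun c m h1 _ => by simpa using h1))
      exact MorphismProperty.of_isPullback sq ‹Etale u›
    haveI : Surjective u' := ⟨fun z => by
      obtain ⟨w, hw⟩ := z.2
      exact ⟨w, U.ι.isOpenEmbedding.injective (by rw [← Scheme.Hom.comp_apply, hu']; exact hw)⟩⟩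
    haveI : IsIso (pullback.snd iT.left U.ι) := isIso_of_cover _ u'
      (pullback.lift mt u' (by rw [hmt, hu'])) (pullback.lift_snd _ _ _)
    have hunit : σT ≫ u = η[Red.bc t X].left := by
      apply pullback.hom_ext
      · rw [Category.assoc, pullback.lift_fst, reassoc_of% hσpr, hh]
        show _ = (Functor.LaxMonoidal.ε (Over.pullback t) ≫ (Over.pullback t).map η[X]).left ≫ _
        simp [t]
      · rw [Category.assoc, pullback.lift_snd, pullback.lift_snd]
        exact (Over.w η[Red.bc t X]).symm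
    haveI : Smooth (Red.bc t X).hom := inferInstanceAs (Smooth (pullback.snd X.hom t))
    haveI : IsIso iT.left := isIso_of_open iT
      (by rw [GrpNeutral20.neutralSet_bc X t, hn]; rfl) U
      (fun τ => ⟨σT τ, by rw [← Scheme.Hom.comp_apply, hunit]; rfl⟩)
      (inv (pullback.snd iT.left U.ι) ≫ pullback.fst _ _)
      (by rw [Category.assoc, pullback.condition, IsIso.inv_hom_id_assoc])
    exact ⟨inv iT.left ≫ pullback.fst Y.hom t, by
      rw [Category.assoc, ← hiT, IsIso.inv_hom_id_assoc]⟩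

theorem neutralSet_eq_univ (hconn : ∀ s : S, ConnectedSpace ↥(pullback X.hom (S.fromSpecResidueField s))) :
    SGA3x.neutralSet X = Set.univ := by
  refine Set.eq_univ_of_forall fun x => ?_
  rw [GrpNeutral20.mem_iff]
  haveI : ConnectedSpace ↥(X.hom.fiber (X.hom x)) := hconn (X.hom x)
  have hp : _root_.IsPreconnected (X.hom ⁻¹' {X.hom x}) := by
    rw [← X.hom.range_fiberι, ← Set.image_univ]
    exact isPreconnected_univ.image _ (X.hom.fiberι _).continuous.continuousOn
  rw [hp.connectedComponentIn (show η[X].left (X.hom x) ∈ X.hom ⁻¹' {X.hom x} from GrpNeutral20.unit_over X _)]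
  rfl

theorem geometricallyConnected_sectionComponents {Z B : Scheme.{u}} (f : Z ⟶ B) (E : Z.Opens)
    (σ' : B ⟶ Z) (σ : B ⟶ E.toScheme) (hσ : σ ≫ E.ι = σ') (hσf : σ' ≫ f = 𝟙 B)
    (hE : (E : Set Z) = MoreMor.sectionComponents f σ') : GeometricallyConnected (E.ι ≫ f) := by
  refine AbSchRigid22.geometricallyConnected_of_section _ σ (by rw [reassoc_of% hσ, hσf]) fun b => ?_
  let F := (E.ι ≫ f).fiber b
  have hb : f (σ' b) = b := by rw [← Scheme.Hom.comp_apply, hσf]; rfl
  have hb' : (E.ι ≫ f) (σ b) = b := by rw [← Scheme.Hom.comp_apply, reassoc_of% hσ, hσf]; rfl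
  have hr : Set.range ((E.ι ≫ f).fiberι b ≫ E.ι) = connectedComponentIn (f ⁻¹' {b}) (σ' b) := by
    rw [Scheme.Hom.comp_base, TopCat.coe_comp, Set.range_comp, Scheme.Hom.range_fiberι]
    ext z
    constructor
    · rintro ⟨⟨z, hz⟩, hzb, rfl⟩
      have hz' : f z = b := hzb
      have h1 : z ∈ MoreMor.sectionComponents f σ' := hE.le hz
      rw [MoreMor.sectionComponents, Set.mem_setOf_eq, hz'] at h1
      exact h1
    · intro hz
      have hzb : f z = b := connectedComponentIn_subset (f ⁻¹' {b}) (σ' b) hz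
      refine ⟨⟨z, hE.ge ?_⟩, ?_, rfl⟩
      · rw [MoreMor.sectionComponents, Set.mem_setOf_eq, hzb]; exact hz
      · exact hzb
  haveI : Nonempty F := by
    obtain ⟨w, -⟩ : σ b ∈ Set.range ((E.ι ≫ f).fiberι b) := by rw [Scheme.Hom.range_fiberι]; exact hb'
    exact ⟨w⟩
  haveI : PreconnectedSpace F := by
    refine ⟨((E.ι ≫ f).fiberι b ≫ E.ι).isEmbedding.isInducing.isPreconnected_image.1 ?_⟩
    rw [Set.image_univ, hr]
    exact isPreconnected_connectedComponentIn
  exact ⟨inferInstance⟩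

theorem cutBy_of_closed {X Y B : Scheme.{u}} (f : X ⟶ B) (y : Y ⟶ X) {A : Type u} [CommRing A]
    (k : Spec (CommRingCat.of A) ⟶ B) {T : Scheme.{u}} (t : T ⟶ Spec (CommRingCat.of A)) [IsClosedImmersion t]
    (hrep : ∀ (R : Type u) [CommRing R] [Algebra A R],
      (∃ z, z ≫ t = Spec.map (CommRingCat.ofHom (algebraMap A R))) ↔
        Fac f y (Spec.map (CommRingCat.ofHom (algebraMap A R)) ≫ k)) :
    ∃ I, CutBy f y k I ∧ (LocallyOfFinitePresentation t → I.FG) := by
  haveI : IsAffine T := isAffine_of_isAffineHom t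
  let φ : CommRingCat.of A ⟶ Γ(T, ⊤) := Spec.preimage (T.isoSpec.inv ≫ t)
  have hφ : Spec.map φ = T.isoSpec.inv ≫ t := Spec.map_preimage _
  haveI : IsClosedImmersion (Spec.map φ) := by rw [hφ]; infer_instance
  have hsurj : Function.Surjective φ.hom := by
    haveI : IsAffine (Spec (CommRingCat.of A)) := inferInstance
    have h := (IsClosedImmersion.isAffine_surjective_of_isAffine (Spec.map φ)).2
    have e : φ = (Scheme.ΓSpecIso _).inv ≫ (Spec.map φ).appTop ≫ (Scheme.ΓSpecIso _).hom := by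
      rw [Scheme.ΓSpecIso_naturality, Iso.inv_hom_id_assoc]
    rw [e]
    exact ((ConcreteCategory.bijective_of_isIso (Scheme.ΓSpecIso Γ(T, ⊤)).hom).2.comp h).comp
      (ConcreteCategory.bijective_of_isIso (Scheme.ΓSpecIso (CommRingCat.of A)).inv).2
  refine ⟨RingHom.ker φ.hom, fun R _ _ => ?_, fun ht => LimH13.ker_fg_of_surjective φ.hom hsurj ?_⟩
  · rw [← hrep]
    constructor
    · rintro ⟨z, hz⟩ a ha
      let ψ : Γ(T, ⊤) ⟶ CommRingCat.of R := Spec.preimage (z ≫ T.isoSpec.hom)
      have h1 : φ ≫ ψ = CommRingCat.ofHom (algebraMap A R) := Spec.map_injective (by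
        rw [Spec.map_comp, Spec.map_preimage, hφ, Category.assoc, Iso.hom_inv_id_assoc, hz])
      have h2 : ψ (φ a) = algebraMap A R a := congr($(h1).hom a)
      rw [RingHom.mem_ker] at ha ⊢
      rw [← h2, ha, map_zero]
    · intro hle
      let ψ : Γ(T, ⊤) ⟶ CommRingCat.of R :=
        CommRingCat.ofHom (RingHom.liftOfSurjective φ.hom hsurj ⟨algebraMap A R, hle⟩)
      have h1 : φ ≫ ψ = CommRingCat.ofHom (algebraMap A R) :=
        CommRingCat.hom_ext (RingHom.liftOfRightInverse_comp _ _ _ _)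
      exact ⟨Spec.map ψ ≫ T.isoSpec.inv, by rw [Category.assoc, ← hφ, ← Spec.map_comp, h1]⟩
  · haveI := ht
    exact (HasRingHomProperty.Spec_iff (P := @LocallyOfFinitePresentation)).mp
      (by rw [hφ]; infer_instance)

theorem exists_cutBy_subgroup [Smooth X.hom] [QuasiSeparated X.hom] [LocallyOfFinitePresentation Y.hom]
    [QuasiCompact Y.hom] (hn : SGA3x.neutralSet X = Set.univ) (s : S) :
    ∃ U : S.affineOpens, s ∈ U.1 ∧ ∃ I, CutBy X.hom i.left U.2.fromSpec I ∧ I.FG := by
  haveI : LocallyOfFinitePresentation i.left := by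
    haveI : LocallyOfFinitePresentation (i.left ≫ X.hom) := by rw [Over.w i]; infer_instance
    exact SchBasic.locallyOfFinitePresentation_of_comp i.left X.hom
  haveI : QuasiCompact i.left := by
    haveI : QuasiCompact (i.left ≫ X.hom) := by rw [Over.w i]; infer_instance
    exact QuasiCompact.of_comp i.left X.hom
  haveI : LocallyQuasiFinite i.left := inferInstance
  obtain ⟨X₁, g₁, hg₁, ⟨x₁, hx₁⟩, V₁, W₁, v₁, hVW, hVfin, hv₁⟩ :=
    exists_etale_isCompl_of_quasiFiniteAt i.left (x := η[Y].left s) (s := η[X].left s)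
      (by rw [← Scheme.Hom.comp_apply, ← Over.comp_left, IsMonHom.one_hom i]) (i.left.quasiFiniteAt _)
  haveI := hg₁
  obtain ⟨X₀, hX₀, hx₀, -⟩ := exists_isAffineOpen_mem_and_subset (X := X₁) (U := ⊤)
    (x := pullback.snd i.left g₁ v₁.1) trivial
  let g : X₀.toScheme ⟶ X.left := X₀.ι ≫ g₁
  haveI : IsAffine X₀.toScheme := hX₀
  haveI : Etale g := inferInstance
  let m : pullback i.left g ⟶ pullback i.left g₁ :=
    pullback.map _ _ _ _ (𝟙 _) X₀.ι (𝟙 _) (by simp) (by simp [g])
  let V : (pullback i.left g).Opens := m ⁻¹ᵁ V₁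
  have hVc : IsClosed (V₁ : Set ↥(pullback i.left g₁)) := by
    have h : (V₁ : Set ↥(pullback i.left g₁)) = (W₁ : Set ↥(pullback i.left g₁))ᶜ :=
      eq_compl_iff_isCompl.mpr (hVW.map TopologicalSpace.Opens.frameHom)
    rw [h]; exact W₁.2.isClosed_compl
  have hV : IsClosed (V : Set ↥(pullback i.left g)) := hVc.preimage m.continuous
  haveI : IsClosedImmersion (V.ι ≫ pullback.snd i.left g) := by
    haveI : IsClosedImmersion (V₁.ι ≫ pullback.snd i.left g₁) :=
      (IsClosedImmersion.iff_isFinite_and_mono _).2 ⟨hVfin, inferInstance⟩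
    have sqm : IsPullback m (pullback.snd i.left g) (pullback.snd i.left g₁) X₀.ι := by
      refine IsPullback.of_right ?_ (pullback.lift_snd _ _ _) (IsPullback.of_hasPullback i.left g₁)
      rw [pullback.lift_fst, Category.comp_id]
      exact IsPullback.of_hasPullback i.left g
    exact MorphismProperty.of_isPullback ((isPullback_morphismRestrict m V₁).paste_vert sqm)
      ‹IsClosedImmersion (V₁.ι ≫ pullback.snd i.left g₁)›
  let x' : X₀.toScheme := ⟨pullback.snd i.left g₁ v₁.1, hx₀⟩
  have hgx : g x' = η[X].left s := by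
    show g₁ (pullback.snd i.left g₁ v₁.1) = _
    rw [← Scheme.Hom.comp_apply, ← pullback.condition, Scheme.Hom.comp_apply, hv₁, ← Scheme.Hom.comp_apply,
      ← Over.comp_left, IsMonHom.one_hom i]
  let π : pullback η[X].left g ⟶ S := pullback.fst η[X].left g
  obtain ⟨s₁, hs₁, hs₁x⟩ := Scheme.Pullback.exists_preimage_pullback (f := η[X].left) (g := g) s x' hgx.symm
  let l : pullback η[X].left g ⟶ pullback i.left g := pullback.lift (π ≫ η[Y].left) (pullback.snd _ _) (by
    rw [Category.assoc, ← Over.comp_left, IsMonHom.one_hom i]; exact pullback.condition)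
  have hls : l s₁ ∈ V := by
    show m (l s₁) ∈ V₁
    convert v₁.2
    refine (pullback.snd i.left g₁).injective ?_
    rw [← Scheme.Hom.comp_apply m, pullback.lift_snd, Scheme.Hom.comp_apply, ← Scheme.Hom.comp_apply l,
      pullback.lift_snd, hs₁x]
    rfl
  obtain ⟨U₁, hU₁, hsU₁, -⟩ := exists_isAffineOpen_mem_and_subset (X := S) (U := ⊤) (x := s) trivial
  obtain ⟨W, hW, hsW, hWle⟩ := exists_isAffineOpen_mem_and_subset (X := pullback η[X].left g)
    (U := l ⁻¹ᵁ V ⊓ π ⁻¹ᵁ U₁) (x := s₁) ⟨hls, show pullback.fst η[X].left g s₁ ∈ U₁ by rw [hs₁]; exact hsU₁⟩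
  haveI : Etale π := MorphismProperty.pullback_fst _ _ ‹Etale g›
  let O : S.Opens := ⟨π '' (W : Set ↥(pullback η[X].left g)), π.isOpenMap _ W.2⟩
  obtain ⟨a, haO, hsa⟩ := hU₁.exists_basicOpen_le (V := O) ⟨s, ⟨s₁, hsW, hs₁⟩⟩ hsU₁
  let D : S.affineOpens := S.affineBasicOpen (U := ⟨U₁, hU₁⟩) a
  have hWg : W ≤ π ⁻¹ᵁ U₁ := fun z hz => (hWle hz).2
  let W₃ : (pullback η[X].left g).affineOpens :=
    (pullback η[X].left g).affineBasicOpen (U := ⟨W, hW⟩) (π.appLE U₁ W hWg a)
  have hW₃ : W₃.1 = W ⊓ π ⁻¹ᵁ D.1 := by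
    show (pullback η[X].left g).basicOpen (π.appLE U₁ W hWg a) = _
    rw [Scheme.Hom.appLE, CommRingCat.comp_apply, Scheme.basicOpen_res, ← Scheme.preimage_basicOpen]
    rfl
  have hW₃g : W₃.1 ≤ π ⁻¹ᵁ D.1 := hW₃.le.trans inf_le_right
  letI : Algebra Γ(S, D.1) Γ(pullback η[X].left g, W₃.1) := (π.appLE D.1 W₃.1 hW₃g).hom.toAlgebra
  have hmap : Spec.map (π.appLE D.1 W₃.1 hW₃g) ≫ D.2.fromSpec = W₃.2.fromSpec ≫ π :=
    IsAffineOpen.SpecMap_appLE_fromSpec π D.2 W₃.2 hW₃g
  haveI : Module.FaithfullyFlat Γ(S, D.1) Γ(pullback η[X].left g, W₃.1) := by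
    refine RingHom.faithfullyFlat_algebraMap_iff.1 (RingHom.FaithfullyFlat.iff_flat_and_comap_surjective.2
      ⟨HasRingHomProperty.appLE @Flat π inferInstance D W₃ hW₃g, fun p => ?_⟩)
    have hp : D.2.fromSpec p ∈ D.1 := D.2.range_fromSpec.subset ⟨p, rfl⟩
    obtain ⟨w, hw, hwp⟩ := haO hp
    obtain ⟨q, hq⟩ : w ∈ Set.range W₃.2.fromSpec := by
      rw [W₃.2.range_fromSpec, hW₃]
      exact ⟨hw, by show π w ∈ D.1; rw [hwp]; exact hp⟩
    refine ⟨q, D.2.fromSpec.isOpenEmbedding.injective ?_⟩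
    show D.2.fromSpec (Spec.map (π.appLE D.1 W₃.1 hW₃g) q) = _
    rw [← Scheme.Hom.comp_apply, hmap, Scheme.Hom.comp_apply, hq, hwp]
  let k : Spec Γ(pullback η[X].left g, W₃.1) ⟶ S := Spec.map (π.appLE D.1 W₃.1 hW₃g) ≫ D.2.fromSpec
  let h : Spec Γ(pullback η[X].left g, W₃.1) ⟶ X₀.toScheme := W₃.2.fromSpec ≫ pullback.snd η[X].left g
  have hh : h ≫ g = k ≫ η[X].left := by
    simp only [h, k, hmap, π, Category.assoc, pullback.condition]
  have hl : ∀ b, ∃ v ∈ V, pullback.snd i.left g v = h b := fun b =>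
    ⟨l (W₃.2.fromSpec b), (hWle (hW₃.le (W₃.2.range_fromSpec.subset ⟨b, rfl⟩)).1).1, by
      rw [← Scheme.Hom.comp_apply, pullback.lift_snd]; rfl⟩
  let f' := pullback.snd (g ≫ X.hom) k
  let σ' : Spec Γ(pullback η[X].left g, W₃.1) ⟶ pullback (g ≫ X.hom) k := pullback.lift h (𝟙 _) (by
    rw [reassoc_of% hh, Over.w η[X], Category.id_comp]; exact Category.comp_id _)
  have hσf : σ' ≫ f' = 𝟙 _ := pullback.lift_snd _ _ _
  haveI : QuasiSeparated (g ≫ X.hom) := inferInstance
  haveI : QuasiSeparatedSpace ↥(pullback (g ≫ X.hom) k) := (quasiSeparated_iff_quasiSeparatedSpace f').mp inferInstance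
  haveI : Smooth f' := inferInstance
  let E : (pullback (g ≫ X.hom) k).Opens :=
    ⟨MoreMor.sectionComponents f' σ', SectionCompFlat4.isOpen_of_smooth f' hσf⟩
  let σ := IsOpenImmersion.lift E.ι σ' (by
    rintro _ ⟨b, rfl⟩
    rw [Scheme.Opens.range_ι]
    show σ' b ∈ connectedComponentIn (f' ⁻¹' {f' (σ' b)}) (σ' (f' (σ' b)))
    have hb : f' (σ' b) = b := by rw [← Scheme.Hom.comp_apply, hσf]; rfl
    rw [hb]
    exact mem_connectedComponentIn hb)
  have hσ : σ ≫ E.ι = σ' := IsOpenImmersion.lift_fac _ _ _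
  haveI : GeometricallyConnected (E.ι ≫ f') :=
    geometricallyConnected_sectionComponents f' E σ' σ hσ hσf rfl
  let y := pullback.snd (V.ι ≫ pullback.snd i.left g) (E.ι ≫ pullback.fst (g ≫ X.hom) k)
  haveI : IsClosedImmersion y := inferInstance
  haveI : LocallyOfFinitePresentation y := by
    haveI : LocallyOfFinitePresentation (V.ι ≫ pullback.snd i.left g) := inferInstance
    exact MorphismProperty.pullback_snd _ _ inferInstance
  obtain ⟨T, t, ht, hrep, hfp⟩ := exists_closed_of_smooth (E.ι ≫ f') y (irrFibres_of_geometricallyConnected _)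
  haveI := ht
  obtain ⟨I', hI', hfg⟩ := cutBy_of_closed X.hom i.left k t fun R _ _ =>
    (hrep _ _).trans (fac_subgroup_iff i hn k g V hV h hh hl E σ hσ _).symm
  obtain ⟨hI, hfg'⟩ := cutBy_descent X.hom i.left D.2.fromSpec I' hI'
  exact ⟨D, hsa, _, hI, hfg' (hfg (hfp inferInstance))⟩

/-- Closed Weil restriction of a subgroup. -/
theorem exists_closed_subgroup [Smooth X.hom] [QuasiSeparated X.hom] [LocallyOfFinitePresentation Y.hom]
    [QuasiCompact Y.hom] (hn : SGA3x.neutralSet X = Set.univ) :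
    ∃ (T : Scheme.{u}) (t : T ⟶ S), IsClosedImmersion t ∧ LocallyOfFinitePresentation t ∧
      ∀ (S' : Scheme.{u}) (g : S' ⟶ S), (∃ g' : S' ⟶ T, g' ≫ t = g) ↔ Fac X.hom i.left g := by
  haveI : LocallyOfFinitePresentation i.left := by
    haveI : LocallyOfFinitePresentation (i.left ≫ X.hom) := by rw [Over.w i]; infer_instance
    exact SchBasic.locallyOfFinitePresentation_of_comp i.left X.hom
  obtain ⟨T, t, ht, hrep, hfp⟩ := exists_closed X.hom i.left fun s => by
    obtain ⟨U, hs, I, hI, hfg⟩ := exists_cutBy_subgroup i hn s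
    exact ⟨U, hs, I, hI, fun _ => hfg⟩
  exact ⟨T, t, ht, hfp inferInstance, hrep⟩

end Groth.Agent.PureSmooth29
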