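import Groth.Agent.Lib.PureSmooth29.Assoc
import Groth.Agent.Lib.SmoothRed.Basic

/-!
# Vanishing criteria in smooth algebras with irreducible fibres
-/

set_option autoImplicit false
set_option linter.style.haveILetI false
set_option maxSynthPendingDepth 3

universe u

open TensorProduct
open scoped Pointwise

namespace Groth.Agent.PureSmooth29

/-- The powers of the augmentation ideal of a smooth algebra with a retraction have projective quotients. -/
theorem projective_quotient_pow {R B : Type u} [CommRing R] [CommRing B] [Algebra R B] [Algebra.Smooth R B]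
    (e : B →ₐ[R] R) (n : ℕ) : Module.Projective R (B ⧸ (RingHom.ker e) ^ n) := by
  classical
  let I := RingHom.ker e
  obtain rfl | hn := Nat.eq_zero_or_pos n
  · haveI : Subsingleton (B ⧸ (RingHom.ker e) ^ 0) := by
      rw [pow_zero]; exact Ideal.Quotient.subsingleton_iff.2 Ideal.one_eq_top
    infer_instance
  have hIfg : I.FG := Algebra.FinitePresentation.ker_fG_of_surjective e fun r => ⟨algebraMap R B r, e.commutes r⟩
  obtain ⟨d, b, hb⟩ := Submodule.fg_iff_exists_fin_generating_family.mp hIfg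
  have hbI : ∀ j, e (b j) = 0 := fun j => show b j ∈ I from hb ▸ Submodule.subset_span ⟨j, rfl⟩
  let M := MvPolynomial.idealOfVars (Fin d) R
  let q : B →ₐ[R] B ⧸ I ^ n := Ideal.Quotient.mkₐ R _
  let ψ₀ : MvPolynomial (Fin d) R →ₐ[R] B ⧸ I ^ n := MvPolynomial.aeval fun j => q (b j)
  have hM : M.map (ψ₀ : MvPolynomial (Fin d) R →+* B ⧸ I ^ n) ≤ I.map (q : B →+* B ⧸ I ^ n) := by
    rw [show M = Ideal.span _ from rfl, Ideal.map_span, Ideal.span_le]
    rintro _ ⟨_, ⟨j, rfl⟩, rfl⟩
    simp only [ψ₀, RingHom.coe_coe, MvPolynomial.aeval_X]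
    exact Ideal.mem_map_of_mem _ (hb ▸ Submodule.subset_span ⟨j, rfl⟩)
  let ψ : MvPolynomial (Fin d) R ⧸ M ^ n →ₐ[R] B ⧸ I ^ n := Ideal.Quotient.liftₐ (M ^ n) ψ₀ fun a ha => by
    have h1 : ψ₀ a ∈ (M ^ n).map (ψ₀ : MvPolynomial (Fin d) R →+* B ⧸ I ^ n) := Ideal.mem_map_of_mem _ ha
    rw [Ideal.map_pow] at h1
    have h2 := Ideal.pow_right_mono hM n h1
    rw [← Ideal.map_pow, show (q : B →+* B ⧸ I ^ n) = Ideal.Quotient.mk _ from rfl,
      Ideal.map_quotient_self, Ideal.mem_bot] at h2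
    exact h2
  have hψ : Function.Surjective ψ := by
    have hmon : ∀ k, ∀ y ∈ Set.range b ^ k, q y ∈ ψ₀.range := by
      intro k
      induction k with
      | zero =>
        intro y hy
        rw [pow_zero, Set.mem_one] at hy
        rw [hy, map_one]; exact one_mem _
      | succ k ihk =>
        intro y hy
        rw [pow_succ, Set.mem_mul] at hy
        obtain ⟨y', hy', _, ⟨j, rfl⟩, rfl⟩ := hy
        rw [map_mul]
        exact mul_mem (ihk y' hy') ⟨MvPolynomial.X j, MvPolynomial.aeval_X _ _⟩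
    have key : ∀ m k, n ≤ k + m → ∀ x ∈ I ^ k, q x ∈ ψ₀.range := by
      intro m
      induction m with
      | zero =>
        intro k hk x hx
        rw [show q x = 0 from Ideal.Quotient.eq_zero_iff_mem.mpr (Ideal.pow_le_pow_right (by omega) hx)]
        exact zero_mem _
      | succ m ih =>
        intro k hk x hx
        have hpow : I ^ k = Ideal.span (Set.range b ^ k) := by
          rw [← hb]; exact Submodule.span_pow _ _
        have hgen : ∀ y ∈ Set.range b ^ k, ∀ c : B, q (c * y) ∈ ψ₀.range := by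
          intro y hy c
          have hy1 : q y ∈ ψ₀.range := hmon k y hy
          rw [show c * y = (c - algebraMap R B (e c)) * y + algebraMap R B (e c) * y by ring, map_add]
          refine add_mem (ih (k + 1) (by omega) _ ?_) ?_
          · rw [pow_succ']
            exact Ideal.mul_mem_mul (by simp [I]) (hpow ▸ Ideal.subset_span hy)
          · rw [map_mul]
            exact mul_mem ⟨algebraMap R _ (e c), by simp⟩ hy1
        rw [hpow] at hx
        suffices ∀ c : B, q (c * x) ∈ ψ₀.range by simpa using this 1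
        induction hx using Submodule.span_induction with
        | mem y hy => exact hgen y hy
        | zero => intro c; rw [mul_zero, map_zero]; exact zero_mem _
        | add a a' _ _ ha ha' => intro c; rw [mul_add, map_add]; exact add_mem (ha c) (ha' c)
        | smul r a _ ha => intro c; rw [smul_eq_mul, ← mul_assoc]; exact ha _
    intro z
    obtain ⟨z, rfl⟩ := Ideal.Quotient.mk_surjective z
    obtain ⟨a, ha⟩ := key n 0 (by omega) z (by simp)
    exact ⟨Ideal.Quotient.mk _ a, ha⟩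
  let ē : B ⧸ I ^ n →ₐ[R] R := Ideal.Quotient.liftₐ _ e fun a ha =>
    Ideal.pow_le_self (by omega) ha
  have hē : ∀ p, ē (ψ₀ p) = MvPolynomial.constantCoeff p := fun p => by
    have : ē.comp ψ₀ = MvPolynomial.aeval fun _ => (0 : R) := MvPolynomial.algHom_ext fun j => by
      simp only [AlgHom.comp_apply, ψ₀, MvPolynomial.aeval_X]
      exact hbI j
    rw [← AlgHom.comp_apply, this]
    simp
  have hcc : ∀ p : MvPolynomial (Fin d) R, MvPolynomial.constantCoeff p = 0 → p ∈ M := fun p hp => by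
    rw [← pow_one M, MvPolynomial.mem_pow_idealOfVars_iff']
    intro x hx
    rw [show x = 0 from (Finsupp.degree_eq_zero_iff _).mp (by omega)]
    exact hp
  have hnil : IsNilpotent (RingHom.ker (ψ : (MvPolynomial (Fin d) R ⧸ M ^ n) →+* B ⧸ I ^ n)) := by
    refine ⟨n, ?_⟩
    rw [Ideal.zero_eq_bot, eq_bot_iff]
    refine (Ideal.pow_right_mono (?_ : _ ≤ M.map (Ideal.Quotient.mk (M ^ n))) n).trans ?_
    · intro z hz
      obtain ⟨z, rfl⟩ := Ideal.Quotient.mk_surjective z
      refine Ideal.mem_map_of_mem _ (hcc z ?_)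
      rw [← hē, show ψ₀ z = 0 from hz, map_zero]
    · rw [← Ideal.map_pow, Ideal.map_quotient_self]
  let φ := Algebra.FormallySmooth.liftOfSurjective q ψ hψ hnil
  have hφ : ∀ x, ψ (φ x) = q x := Algebra.FormallySmooth.liftOfSurjective_apply q ψ hψ hnil
  let φ' : B ⧸ I ^ n →ₐ[R] MvPolynomial (Fin d) R ⧸ M ^ n := Ideal.Quotient.liftₐ _ φ fun a ha => by
    have h1 : φ a ∈ (I ^ n).map (φ : B →+* MvPolynomial (Fin d) R ⧸ M ^ n) := Ideal.mem_map_of_mem _ ha
    rw [Ideal.map_pow] at h1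
    have hle : I.map (φ : B →+* MvPolynomial (Fin d) R ⧸ M ^ n) ≤ M.map (Ideal.Quotient.mk (M ^ n)) := by
      rw [Ideal.map_le_iff_le_comap]
      intro x hx
      obtain ⟨z, hz⟩ := Ideal.Quotient.mk_surjective (φ x)
      simp only [Ideal.mem_comap, RingHom.coe_coe]
      rw [← hz]
      refine Ideal.mem_map_of_mem _ (hcc z ?_)
      rw [← hē, show ψ₀ z = ψ (Ideal.Quotient.mk _ z) from rfl, hz, hφ]
      exact hx
    have h2 := Ideal.pow_right_mono hle n h1
    rwa [← Ideal.map_pow, Ideal.map_quotient_self, Ideal.mem_bot] at h2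
  have hsplit : ψ.toLinearMap.comp φ'.toLinearMap = LinearMap.id := LinearMap.ext fun z => by
    obtain ⟨z, rfl⟩ := Ideal.Quotient.mk_surjective z
    exact hφ z
  haveI : Module.Projective R (MvPolynomial (Fin d) R ⧸ M ^ n) := by
    let T : MvPolynomial (Fin d) R →ₗ[R] MvPolynomial (Fin d) R :=
      ∑ k ∈ Finset.range n, MvPolynomial.homogeneousComponent k
    have hT : ∀ p x, (T p).coeff x = if x.degree < n then p.coeff x else 0 := fun p x => by
      simp only [T, LinearMap.sum_apply, MvPolynomial.coeff_sum, MvPolynomial.coeff_homogeneousComponent,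
        Finset.sum_ite_eq, Finset.mem_range]
    let T' : (MvPolynomial (Fin d) R ⧸ M ^ n) →ₗ[R] MvPolynomial (Fin d) R :=
      ((M ^ n).restrictScalars R).liftQ T (fun p hp => by
        refine MvPolynomial.ext _ _ fun x => ?_
        rw [hT, MvPolynomial.coeff_zero]
        split_ifs with h
        · exact (MvPolynomial.mem_pow_idealOfVars_iff' n p).mp hp x h
        · rfl)
    refine Module.Projective.of_split T' (Ideal.Quotient.mkₐ R (M ^ n)).toLinearMap (LinearMap.ext fun z => ?_)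
    obtain ⟨z, rfl⟩ := Ideal.Quotient.mk_surjective z
    show Ideal.Quotient.mk _ (T z) = Ideal.Quotient.mk _ z
    rw [Ideal.Quotient.eq, MvPolynomial.mem_pow_idealOfVars_iff']
    intro x hx
    rw [MvPolynomial.coeff_sub, hT, if_pos hx, sub_self]
  exact Module.Projective.of_split φ'.toLinearMap ψ.toLinearMap hsplit

/-- A smooth algebra over a field with irreducible spectrum after a field extension is a domain. -/
theorem isDomain_of_preirreducible (k K : Type u) [Field k] [Field K] [Algebra k K] (F : Type u) [CommRing F]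
    [Algebra k F] [Algebra.Smooth k F] [Nontrivial F]
    [PreirreducibleSpace (PrimeSpectrum (K ⊗[k] F))] : IsDomain F := by
  haveI : _root_.IsReduced F := SmoothRed.isReduced_of_smooth_field k F
  let i : F →+* K ⊗[k] F := (Algebra.TensorProduct.includeRight : F →ₐ[k] K ⊗[k] F).toRingHom
  have hinj : Function.Injective i :=
    Algebra.TensorProduct.includeRight_injective (algebraMap k K).injective
  haveI : Nontrivial (K ⊗[k] F) := hinj.nontrivial
  haveI : IrreducibleSpace (PrimeSpectrum (K ⊗[k] F)) := { toNonempty := inferInstance }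
  have hp := (PrimeSpectrum.irreducibleSpace_iff_isPrime_nilradical).mp
    (inferInstance : IrreducibleSpace (PrimeSpectrum (K ⊗[k] F)))
  haveI : NoZeroDivisors F := ⟨fun {a b} hab => by
    have : i a * i b ∈ nilradical (K ⊗[k] F) := by rw [← map_mul, hab, map_zero]; exact zero_mem _
    rcases hp.mem_or_mem this with h | h
    · obtain ⟨m, hm⟩ := mem_nilradical.mp h
      exact Or.inl (IsReduced.eq_zero a ⟨m, hinj (by rw [map_pow, hm, map_zero])⟩)
    · obtain ⟨m, hm⟩ := mem_nilradical.mp h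
      exact Or.inr (IsReduced.eq_zero b ⟨m, hinj (by rw [map_pow, hm, map_zero])⟩)⟩
  exact NoZeroDivisors.to_isDomain F

/-- A model of a smooth algebra over a finitely generated subring containing given elements. -/
theorem exists_model {R B : Type u} [CommRing R] [CommRing B] [Algebra R B] [Algebra.Smooth R B]
    (s : Finset B) (E : Finset (B →ₐ[R] R)) :
    ∃ (R₁ : Type u) (_ : CommRing R₁) (_ : IsNoetherianRing R₁) (_ : Algebra R₁ R)
      (B₁ : Type u) (_ : CommRing B₁) (_ : Algebra R₁ B₁) (_ : Algebra.Smooth R₁ B₁)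
      (e : R ⊗[R₁] B₁ ≃ₐ[R] B), Function.Injective (algebraMap R₁ R) ∧
        (∀ b ∈ s, ∃ b₁, e (1 ⊗ₜ b₁) = b) ∧
        ∀ f ∈ E, ∀ b₁, ∃ r₁, f (e (1 ⊗ₜ b₁)) = algebraMap R₁ R r₁ := by
  classical
  obtain ⟨A₀, B₀, _, _, hA₀, _, ⟨e₀⟩⟩ := Algebra.Smooth.exists_subalgebra_fg ℤ R B
  have hrep : ∀ b : B, ∃ T : Finset (R × B₀), e₀ b = ∑ t ∈ T, t.1 ⊗ₜ[A₀] t.2 := fun b =>
    TensorProduct.exists_finset (e₀ b)
  choose T hT using hrep
  obtain ⟨G, hG⟩ := Algebra.FiniteType.out (R := A₀) (A := B₀)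
  let W : Finset R := s.biUnion (fun b => (T b).image Prod.fst) ∪
    E.biUnion (fun f => G.image fun g => f (e₀.symm (1 ⊗ₜ g)))
  obtain ⟨S₀, hS₀⟩ := hA₀
  let A₁ : Subalgebra ℤ R := Algebra.adjoin ℤ ↑(S₀ ∪ W)
  have hle : A₀ ≤ A₁ := by rw [← hS₀]; exact Algebra.adjoin_mono (by simp)
  have hW : ∀ w ∈ W, w ∈ A₁ := fun w hw => Algebra.subset_adjoin (by simp [hw])
  haveI : Algebra.FiniteType ℤ A₁ :=
    (Subalgebra.fg_iff_finiteType A₁).mp ⟨S₀ ∪ W, rfl⟩
  haveI : IsNoetherianRing A₁ := Algebra.FiniteType.isNoetherianRing ℤ A₁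
  letI : Algebra A₀ A₁ := (Subalgebra.inclusion hle).toRingHom.toAlgebra
  haveI : IsScalarTower A₀ A₁ R := IsScalarTower.of_algebraMap_eq fun _ => rfl
  let e : R ⊗[A₁] (A₁ ⊗[A₀] B₀) ≃ₐ[R] B :=
    (Algebra.TensorProduct.cancelBaseChange A₀ A₁ R R B₀).trans e₀.symm
  have he : ∀ (a : A₁) (b₀ : B₀), e (1 ⊗ₜ (a ⊗ₜ b₀)) = e₀.symm ((a : R) ⊗ₜ b₀) := fun a b₀ => by
    simp [e, Algebra.smul_def]
  refine ⟨A₁, inferInstance, inferInstance, inferInstance, A₁ ⊗[A₀] B₀, inferInstance, inferInstance,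
    inferInstance, e, Subtype.val_injective, fun b hb => ?_, fun f hf b₁ => ?_⟩
  · refine ⟨∑ t ∈ (T b).attach, (⟨t.1.1, hW _ (Finset.mem_union_left _ (Finset.mem_biUnion.mpr
      ⟨b, hb, Finset.mem_image_of_mem _ t.2⟩))⟩ : A₁) ⊗ₜ[A₀] t.1.2, ?_⟩
    rw [TensorProduct.tmul_sum, map_sum]
    simp only [he]
    rw [← map_sum, Finset.sum_attach (T b) (fun t => t.1 ⊗ₜ[A₀] t.2), ← hT, AlgEquiv.symm_apply_apply]
  · induction b₁ using TensorProduct.induction_on with
    | zero => exact ⟨0, by simp⟩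
    | tmul a b₀ =>
      suffices h : f (e₀.symm (1 ⊗ₜ b₀)) ∈ A₁ by
        refine ⟨a * ⟨_, h⟩, ?_⟩
        rw [he, show (a : R) ⊗ₜ[A₀] b₀ = (a : R) • ((1 : R) ⊗ₜ b₀) by
          rw [TensorProduct.smul_tmul', smul_eq_mul, mul_one], map_smul, map_smul, smul_eq_mul]
        rfl
      have hb₀ : b₀ ∈ Algebra.adjoin A₀ (G : Set B₀) := hG ▸ Algebra.mem_top
      induction hb₀ using Algebra.adjoin_induction with
      | mem g hg =>
        exact hW _ (Finset.mem_union_right _ (Finset.mem_biUnion.mpr ⟨f, hf, Finset.mem_image_of_mem _ hg⟩))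
      | algebraMap r =>
        rw [show (1 : R) ⊗ₜ[A₀] algebraMap A₀ B₀ r = algebraMap R (R ⊗[A₀] B₀) (r : R) by
          rw [Algebra.algebraMap_eq_smul_one, ← TensorProduct.smul_tmul, Algebra.smul_def, mul_one,
            Algebra.TensorProduct.algebraMap_apply]; rfl, AlgEquiv.commutes, AlgHom.commutes]
        exact hle r.2
      | add x y _ _ hx hy => rw [TensorProduct.tmul_add, map_add, map_add]; exact add_mem hx hy
      | mul x y _ _ hx hy =>
        rw [show (1 : R) ⊗ₜ[A₀] (x * y) = (1 ⊗ₜ x) * (1 ⊗ₜ y) by simp, map_mul, map_mul]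
        exact mul_mem hx hy
    | add x y hx hy =>
      obtain ⟨r, hr⟩ := hx
      obtain ⟨r', hr'⟩ := hy
      exact ⟨r + r', by rw [TensorProduct.tmul_add, map_add, map_add, hr, hr', map_add]⟩

variable {R B : Type u} [CommRing R] [CommRing B] [Algebra R B] [Algebra.Smooth R B]

/-- On a model, elements which do not vanish on a fibre are nonzero divisors on the fibre below. -/
theorem fibre_nzd_of_model {R₁ : Type u} [CommRing R₁] [IsNoetherianRing R₁] [Algebra R₁ R]
    (hinj : Function.Injective (algebraMap R₁ R))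
    {B₁ : Type u} [CommRing B₁] [Algebra R₁ B₁] [Algebra.Smooth R₁ B₁] (e : R ⊗[R₁] B₁ ≃ₐ[R] B)
    (hirr : ∀ (q : Ideal R) [q.IsPrime], PreirreducibleSpace (PrimeSpectrum (q.ResidueField ⊗[R] B)))
    (p : Ideal R₁) [p.IsPrime] (a : R₁)
    (hmin : p ∈ Ideal.minimalPrimes (LinearMap.ker (LinearMap.toSpanSingleton R₁ R₁ a)))
    (hne : ∃ z : p.ResidueField ⊗[R₁] B₁, z ≠ 0) :
    ∃ (q : Ideal R) (_ : q.IsPrime), (∃ z : q.ResidueField ⊗[R] B, z ≠ 0) ∧
      ∀ g : B₁, (1 : q.ResidueField) ⊗ₜ[R] e (1 ⊗ₜ g) ≠ 0 →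
        ∀ z : p.ResidueField ⊗[R₁] B₁, (1 ⊗ₜ g) * z = 0 → z = 0 := by
  obtain ⟨q, hq, -, hqp⟩ := Ideal.exists_comap_eq_of_mem_minimalPrimes (algebraMap R₁ R)
    (I := LinearMap.ker (LinearMap.toSpanSingleton R R (algebraMap R₁ R a))) p (by
      have hann : Ideal.comap (algebraMap R₁ R)
          (LinearMap.ker (LinearMap.toSpanSingleton R R (algebraMap R₁ R a))) =
          LinearMap.ker (LinearMap.toSpanSingleton R₁ R₁ a) := by
        ext r
        simp [← map_mul, hinj.eq_iff' (map_zero _)]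
      rw [hann]; exact hmin)
  haveI := hq
  haveI : q.LiesOver p := ⟨hqp.symm⟩
  haveI := hirr q
  letI : Algebra p.ResidueField q.ResidueField :=
    (Ideal.ResidueField.mapₐ (R := R₁) p q (Algebra.ofId R₁ R) hqp.symm).toRingHom.toAlgebra
  haveI : IsScalarTower R₁ p.ResidueField q.ResidueField :=
    IsScalarTower.of_algebraMap_eq fun x =>
      ((Ideal.ResidueField.mapₐ (R := R₁) p q (Algebra.ofId R₁ R) hqp.symm).commutes x).symm
  let c : q.ResidueField ⊗[p.ResidueField] (p.ResidueField ⊗[R₁] B₁) ≃+* q.ResidueField ⊗[R] B :=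
    ((Algebra.TensorProduct.cancelBaseChange R₁ p.ResidueField p.ResidueField q.ResidueField B₁).toRingEquiv.trans
      ((Algebra.TensorProduct.cancelBaseChange R₁ R R q.ResidueField B₁).symm.toRingEquiv)).trans
      (Algebra.TensorProduct.congr (AlgEquiv.refl : q.ResidueField ≃ₐ[R] q.ResidueField) e).toRingEquiv
  have hc : ∀ g : B₁, c (1 ⊗ₜ (1 ⊗ₜ g)) = 1 ⊗ₜ e (1 ⊗ₜ g) := fun g => by simp [c]
  haveI : PreirreducibleSpace (PrimeSpectrum (q.ResidueField ⊗[p.ResidueField] (p.ResidueField ⊗[R₁] B₁))) :=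
    let h := PrimeSpectrum.homeomorphOfRingEquiv c
    h.isOpenEmbedding.preirreducibleSpace
  obtain ⟨z₀, hz₀⟩ := hne
  haveI : Nontrivial (p.ResidueField ⊗[R₁] B₁) := ⟨⟨z₀, 0, hz₀⟩⟩
  haveI := isDomain_of_preirreducible p.ResidueField q.ResidueField (p.ResidueField ⊗[R₁] B₁)
  refine ⟨q, hq, ?_, fun g hg z hz => ?_⟩
  · refine ⟨c (1 ⊗ₜ z₀), fun h => hz₀ ?_⟩
    exact Algebra.TensorProduct.includeRight_injective (algebraMap p.ResidueField q.ResidueField).injective
      ((c.map_eq_zero_iff.mp h).trans (map_zero _).symm)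
  · refine (mul_eq_zero.mp hz).resolve_left fun h => hg ?_
    rw [← hc, h, TensorProduct.tmul_zero, map_zero]

/-- An element killed by finitely many elements, one of which survives on each fibre, is zero. -/
theorem eq_zero_of_fibrewise (hirr : ∀ (q : Ideal R) [q.IsPrime],
      PreirreducibleSpace (PrimeSpectrum (q.ResidueField ⊗[R] B)))
    (G : Finset B) (x : B) (hx : ∀ g ∈ G, g * x = 0)
    (hG : ∀ (q : Ideal R) [q.IsPrime], (∃ z : q.ResidueField ⊗[R] B, z ≠ 0) →
      ∃ g ∈ G, (1 : q.ResidueField) ⊗ₜ[R] g ≠ 0) : x = 0 := by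
  classical
  obtain ⟨R₁, _, _, _, B₁, _, _, _, e, hinj, hs, -⟩ := exists_model (insert x G) (∅ : Finset (B →ₐ[R] R))
  obtain ⟨x₁, rfl⟩ := hs x (Finset.mem_insert_self x G)
  haveI : IsNoetherianRing B₁ := Algebra.FiniteType.isNoetherianRing R₁ B₁
  have hf : Function.Injective fun b₁ : B₁ => e (1 ⊗ₜ b₁) :=
    e.injective.comp (Algebra.TensorProduct.includeRight_injective (R := R₁) (A := R) (B := B₁) hinj)
  have : x₁ = 0 := by
    refine eq_zero_of_forall_mul_eq_zero (R := R₁) {g₁ : B₁ | e (1 ⊗ₜ g₁) ∈ G} x₁ (fun g hg => hf ?_) fun p _ a ha hne => ?_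
    · simp only [TensorProduct.tmul_zero, map_zero]
      rw [← hx _ hg, ← map_mul, Algebra.TensorProduct.tmul_mul_tmul, one_mul]
    · obtain ⟨q, hq, hqne, hnzd⟩ := fibre_nzd_of_model hinj e hirr p a ha hne
      obtain ⟨g, hg, hgne⟩ := hG q hqne
      obtain ⟨g₁, rfl⟩ := hs g (Finset.mem_insert_of_mem hg)
      exact ⟨g₁, hg, hnzd g₁ hgne⟩
  subst this
  simp

/-- An element lying in all powers of the augmentation ideal of a retraction is zero. -/
theorem eq_zero_of_mem_pow (hirr : ∀ (q : Ideal R) [q.IsPrime],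
      PreirreducibleSpace (PrimeSpectrum (q.ResidueField ⊗[R] B)))
    (ε : B →ₐ[R] R) (x : B) (hx : ∀ n : ℕ, x ∈ RingHom.ker ε ^ n) : x = 0 := by
  classical
  obtain ⟨R₁, _, _, _, B₁, _, _, _, e, hinj, hs, hε⟩ := exists_model {x} {ε}
  obtain ⟨x₁, rfl⟩ := hs x (Finset.mem_singleton_self x)
  haveI : IsNoetherianRing B₁ := Algebra.FiniteType.isNoetherianRing R₁ B₁
  letI : Algebra R₁ B := ((algebraMap R B).comp (algebraMap R₁ R)).toAlgebra
  haveI : IsScalarTower R₁ R B := IsScalarTower.of_algebraMap_eq fun _ => rfl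
  choose r hr using hε ε (Finset.mem_singleton_self ε)
  let f : B₁ →ₐ[R₁] R := ((ε.comp e.toAlgHom).restrictScalars R₁).comp Algebra.TensorProduct.includeRight
  have hfr : ∀ b, algebraMap R₁ R (r b) = f b := fun b => (hr b).symm
  let ε₁ : B₁ →ₐ[R₁] R₁ :=
    { toFun := r
      map_one' := hinj (by rw [hfr, map_one, map_one])
      map_mul' := fun a b => hinj (by rw [hfr, map_mul, map_mul, hfr, hfr])
      map_zero' := hinj (by rw [hfr, map_zero, map_zero])
      map_add' := fun a b => hinj (by rw [hfr, map_add, map_add, hfr, hfr])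
      commutes' := fun c => hinj (by rw [hfr, f.commutes]; rfl) }
  let ι₁ : B₁ →ₐ[R₁] B := (e.toAlgHom.restrictScalars R₁ |>.comp Algebra.TensorProduct.includeRight)
  have hmem : ∀ n, x₁ ∈ RingHom.ker ε₁ ^ n := fun n => by
    let I₁ := RingHom.ker ε₁
    have hIle : RingHom.ker ε ≤ I₁.map (ι₁ : B₁ →+* B) := by
      intro b hb
      have key : ∀ w : R ⊗[R₁] B₁, e w - algebraMap R B (ε (e w)) ∈ I₁.map (ι₁ : B₁ →+* B) := by
        intro w
        induction w using TensorProduct.induction_on with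
        | zero => simp
        | tmul c b₁ =>
          have h1 : b₁ - algebraMap R₁ B₁ (r b₁) ∈ I₁ := by
            show ε₁ _ = 0
            rw [map_sub, AlgHom.commutes]; exact sub_self _
          have h2 : e (c ⊗ₜ b₁) = algebraMap R B c * ι₁ b₁ := by
            show _ = algebraMap R B c * e (1 ⊗ₜ b₁)
            rw [← Algebra.smul_def, ← map_smul, TensorProduct.smul_tmul', smul_eq_mul, mul_one]
          rw [h2, map_mul, AlgHom.commutes, map_mul, show (algebraMap R R) c = c from rfl, ← mul_sub,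
            show ε (ι₁ b₁) = algebraMap R₁ R (r b₁) from hr b₁, ← IsScalarTower.algebraMap_apply,
            ← ι₁.commutes, ← map_sub]
          exact Ideal.mul_mem_left _ _ (Ideal.mem_map_of_mem _ h1)
        | add a c ha hc =>
          rw [map_add, map_add, map_add, add_sub_add_comm]
          exact add_mem ha hc
      have := key (e.symm b)
      rwa [e.apply_symm_apply, show ε b = 0 from hb, map_zero, sub_zero] at this
    have h1 : e (1 ⊗ₜ x₁) ∈ (I₁ ^ n).map (ι₁ : B₁ →+* B) := by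
      rw [Ideal.map_pow]; exact Ideal.pow_right_mono hIle n (hx n)
    haveI : Module.Projective R₁ (B₁ ⧸ I₁ ^ n) := projective_quotient_pow ε₁ n
    have h2 : (Ideal.Quotient.mkₐ R₁ (I₁ ^ n)).toLinearMap.lTensor R ((1 : R) ⊗ₜ x₁) = 0 := by
      have hk : (I₁ ^ n).map (Algebra.TensorProduct.includeRight : B₁ →ₐ[R₁] R ⊗[R₁] B₁).toRingHom ≤
          RingHom.ker (Algebra.TensorProduct.map (AlgHom.id R R) (Ideal.Quotient.mkₐ R₁ (I₁ ^ n))) := by
        rw [Ideal.map_le_iff_le_comap]
        intro y hy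
        show Algebra.TensorProduct.map _ _ ((1 : R) ⊗ₜ y) = 0
        rw [Algebra.TensorProduct.map_tmul, Ideal.Quotient.mkₐ_eq_mk,
          Ideal.Quotient.eq_zero_iff_mem.mpr hy, TensorProduct.tmul_zero]
      have h3 : (1 : R) ⊗ₜ[R₁] x₁ ∈
          (I₁ ^ n).map (Algebra.TensorProduct.includeRight : B₁ →ₐ[R₁] R ⊗[R₁] B₁).toRingHom := by
        have h4 := Ideal.mem_map_of_mem (e.symm : B →+* R ⊗[R₁] B₁) h1
        rw [Ideal.map_map] at h4
        have h5 : (e.symm : B →+* R ⊗[R₁] B₁).comp (ι₁ : B₁ →+* B) =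
            (Algebra.TensorProduct.includeRight : B₁ →ₐ[R₁] R ⊗[R₁] B₁).toRingHom := by
          ext y; simp [ι₁]
        rw [h5] at h4
        simpa using h4
      have h6 := hk h3
      rw [RingHom.mem_ker, Algebra.TensorProduct.map_tmul] at h6
      rw [LinearMap.lTensor_tmul]
      exact h6
    rw [LinearMap.lTensor_tmul] at h2
    exact Ideal.Quotient.eq_zero_iff_mem.mp
      (Algebra.TensorProduct.includeRight_injective (A := R) hinj
        (h2.trans (TensorProduct.tmul_zero _ _).symm))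
  obtain ⟨⟨c, hc⟩, hcx⟩ : ∃ c : RingHom.ker ε₁, (c : B₁) • x₁ = x₁ :=
    (Ideal.mem_iInf_smul_pow_eq_bot_iff (RingHom.ker ε₁) x₁).mp (Submodule.mem_iInf _ |>.mpr fun n => by
      simpa using hmem n)
  have hx0 : x₁ = 0 := eq_zero_of_forall_mul_eq_zero (R := R₁) {1 - c} x₁
    (fun g hg => by
      rw [Set.mem_singleton_iff.mp hg, sub_mul, one_mul, ← smul_eq_mul c x₁, hcx, sub_self])
    fun p _ a ha hne => by
      obtain ⟨q, hq, -, hnzd⟩ := fibre_nzd_of_model hinj e hirr p a ha hne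
      refine ⟨1 - c, rfl, hnzd _ fun h => one_ne_zero (α := q.ResidueField) ?_⟩
      have := congrArg (Algebra.TensorProduct.lift (AlgHom.id q.ResidueField q.ResidueField)
        ((Algebra.ofId R q.ResidueField).comp ε) fun _ _ => Commute.all _ _) h
      simp only [Algebra.TensorProduct.lift_tmul, map_one, one_mul, AlgHom.comp_apply, map_zero] at this
      rwa [show ε (e (1 ⊗ₜ (1 - c))) = 1 by
        rw [hr, show r (1 - c) = ε₁ (1 - c) from rfl, map_sub, map_one,
          show ε₁ c = 0 from hc, sub_zero, map_one], map_one] at this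
  subst hx0
  simp

end Groth.Agent.PureSmooth29
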