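import Mathlib

/-!
# Associated primes of a flat algebra over a Noetherian ring
-/

set_option autoImplicit false
set_option linter.style.haveILetI false

universe u

open TensorProduct IsLocalRing

namespace Groth.Agent.PureSmooth29

/-- A non-zero element of a flat algebra killed by the maximal ideal of a Noetherian local ring. -/
theorem local_key {R B : Type u} [CommRing R] [IsLocalRing R] [IsNoetherianRing R] [CommRing B]
    [Algebra R B] [Module.Flat R B] (y : B) (hy0 : y ≠ 0)
    (hy : ∀ r ∈ maximalIdeal R, algebraMap R B r * y = 0) :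
    (∃ a : R, ∀ r, r * a = 0 ↔ r ∈ maximalIdeal R) ∧
      ∀ g : B, g * y = 0 → ∃ z : ResidueField R ⊗[R] B, z ≠ 0 ∧ (1 ⊗ₜ g) * z = 0 := by
  classical
  obtain ⟨n, r, hr⟩ := Submodule.fg_iff_exists_fin_generating_family.mp
    (IsNoetherian.noetherian (maximalIdeal R))
  let L : R →ₗ[R] (Fin n → R) := LinearMap.pi fun i => LinearMap.mulLeft R (r i)
  let K := LinearMap.ker L
  have hrm : ∀ i, r i ∈ maximalIdeal R := fun i => hr ▸ Submodule.subset_span ⟨i, rfl⟩
  have hex := Module.Flat.rTensor_exact B (LinearMap.exact_subtype_ker_map L)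
  have hy' : L.rTensor B ((1 : R) ⊗ₜ[R] y) = 0 := by
    rw [LinearMap.rTensor_tmul,
      show L 1 = ∑ i, r i • Pi.single i (1 : R) by
        funext j; simp [L, Finset.sum_apply, Pi.single_apply],
      TensorProduct.sum_tmul]
    refine Finset.sum_eq_zero fun i _ => ?_
    rw [TensorProduct.smul_tmul, Algebra.smul_def, hy _ (hrm i), TensorProduct.tmul_zero]
  obtain ⟨z, hz⟩ := (hex _).mp hy'
  have hinj : Function.Injective (K.subtype.rTensor B) :=
    Module.Flat.rTensor_preserves_injective_linearMap _ K.injective_subtype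
  have hz0 : z ≠ 0 := by
    intro h
    rw [h, map_zero] at hz
    have := congrArg (TensorProduct.lid R B) hz
    simp at this
    exact hy0 this.symm
  have hKm : ∀ (c : K) (m : R), m ∈ maximalIdeal R → m * (c : R) = 0 := by
    intro c m hm
    have hle : maximalIdeal R ≤ LinearMap.ker (LinearMap.toSpanSingleton R R (c : R)) := by
      rw [← hr, Submodule.span_le]
      rintro _ ⟨i, rfl⟩
      have h1 := congrFun (LinearMap.mem_ker.mp c.2) i
      simpa [L] using h1
    simpa using LinearMap.mem_ker.mp (hle hm)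
  constructor
  · obtain ⟨a, ha0⟩ : ∃ a : K, (a : R) ≠ 0 := by
      by_contra! h
      haveI : Subsingleton K := ⟨fun a b => Subtype.ext (by rw [h a, h b])⟩
      exact hz0 (Subsingleton.elim _ _)
    refine ⟨a, fun s => ⟨fun hs => ?_, fun hs => hKm a s hs⟩⟩
    by_contra hsu
    exact ha0 ((IsUnit.mul_right_eq_zero (IsLocalRing.notMem_maximalIdeal.mp hsu)).mp hs)
  · intro g hg
    have htors : Module.IsTorsionBySet R K (maximalIdeal R) := fun c m => Subtype.ext (by
      simpa using hKm c m.1 m.2)
    letI : Module (ResidueField R) K := htors.module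
    haveI : IsScalarTower R (ResidueField R) K := htors.isScalarTower
    haveI : Module.Finite (ResidueField R) K := Module.Finite.of_restrictScalars_finite R _ _
    let bK := Module.Free.chooseBasis (ResidueField R) K
    haveI : Fintype (Module.Free.ChooseBasisIndex (ResidueField R) K) := inferInstance
    let φ : K →ₗ[R] (Module.Free.ChooseBasisIndex (ResidueField R) K → ResidueField R) :=
      bK.equivFun.toLinearMap.restrictScalars R
    have hφ : Function.Injective (φ.rTensor B) :=
      Module.Flat.rTensor_preserves_injective_linearMap _ bK.equivFun.injective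
    have hgz : (LinearMap.mulLeft R g).lTensor K z = 0 := by
      apply hinj
      rw [map_zero, ← LinearMap.comp_apply, LinearMap.rTensor_comp_lTensor,
        ← LinearMap.lTensor_comp_rTensor, LinearMap.comp_apply, hz, LinearMap.lTensor_tmul]
      simp [hg]
    let Φ : (K ⊗[R] B) →ₗ[R] (Module.Free.ChooseBasisIndex (ResidueField R) K → ResidueField R ⊗[R] B) :=
      LinearMap.pi fun i => ((LinearMap.proj i).comp φ).rTensor B
    have hΦ : ∀ i (w : K ⊗[R] B), Φ ((LinearMap.mulLeft R g).lTensor K w) i = (1 ⊗ₜ g) * Φ w i := by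
      intro i w
      induction w using TensorProduct.induction_on with
      | zero => simp
      | tmul c b => simp [Φ]
      | add a b ha hb => simp only [map_add, Pi.add_apply, ha, hb, mul_add]
    by_contra! h
    refine hz0 (hφ ?_)
    rw [map_zero]
    refine ((TensorProduct.comm R _ _).trans (TensorProduct.piRight R R B
      fun _ => ResidueField R)).injective (funext fun i => ?_)
    have hi : Φ z i = 0 := by
      by_contra hne
      exact h _ hne (by rw [← hΦ, hgz, map_zero, Pi.zero_apply])
    have key : ∀ w : K ⊗[R] B, ((TensorProduct.comm R _ _).trans (TensorProduct.piRight R R B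
        fun _ => ResidueField R)) (φ.rTensor B w) i = TensorProduct.comm R _ _ (Φ w i) := by
      intro w
      induction w using TensorProduct.induction_on with
      | zero => simp
      | tmul c b => simp [Φ]
      | add a b ha hb => simp only [map_add, Pi.add_apply, ha, hb]
    rw [key, hi]
    simp

/-- An element killed by elements which are nonzero divisors on the fibres over the primes minimal over
annihilators is zero. -/
theorem eq_zero_of_forall_mul_eq_zero {R B : Type u} [CommRing R] [IsNoetherianRing R] [CommRing B]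
    [IsNoetherianRing B] [Algebra R B] [Module.Flat R B] (G : Set B) (x : B) (hx : ∀ g ∈ G, g * x = 0)
    (hfib : ∀ (p : Ideal R) [p.IsPrime] (a : R),
      p ∈ Ideal.minimalPrimes (LinearMap.ker (LinearMap.toSpanSingleton R R a)) →
      (∃ z : p.ResidueField ⊗[R] B, z ≠ 0) →
      ∃ g ∈ G, ∀ z : p.ResidueField ⊗[R] B, (1 ⊗ₜ g) * z = 0 → z = 0) : x = 0 := by
  classical
  by_contra hx0
  obtain ⟨P, hP, hle⟩ := exists_le_isAssociatedPrime_of_isNoetherianRing B x hx0
  obtain ⟨hPp, y, hy⟩ := isAssociatedPrime_iff.mp hP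
  haveI := hPp
  have hmem : ∀ b : B, b ∈ P ↔ b * y = 0 := fun b => by
    rw [hy, Submodule.mem_colon_singleton, Submodule.mem_bot, smul_eq_mul]
  let p := P.comap (algebraMap R B)
  let Rp := Localization.AtPrime p
  let y' : Rp ⊗[R] B := 1 ⊗ₜ y
  have hy' : y' ≠ 0 := by
    intro h
    obtain ⟨s, hs⟩ := IsLocalizedModule.exists_of_eq (S := p.primeCompl)
      (f := TensorProduct.mk R Rp B 1) (x₁ := y) (x₂ := 0) (h.trans (map_zero _).symm)
    refine s.2 ?_
    show algebraMap R B s ∈ P
    rw [hmem, ← Algebra.smul_def]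
    simpa [Submonoid.smul_def] using hs
  have hkill : ∀ r ∈ maximalIdeal Rp, algebraMap Rp (Rp ⊗[R] B) r * y' = 0 := by
    intro r hr
    obtain ⟨a, s, rfl⟩ := IsLocalization.exists_mk'_eq p.primeCompl r
    rw [IsLocalization.AtPrime.mk'_mem_maximal_iff Rp p] at hr
    have ha : algebraMap R B a * y = 0 := (hmem _).mp hr
    have hu : IsUnit (algebraMap Rp (Rp ⊗[R] B) (algebraMap R Rp s)) :=
      (IsLocalization.map_units Rp s).map _
    rw [← hu.mul_right_eq_zero, ← mul_assoc, ← map_mul, IsLocalization.mk'_spec' Rp,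
      ← IsScalarTower.algebraMap_apply R Rp (Rp ⊗[R] B), ← Algebra.smul_def,
      ← TensorProduct.tmul_smul, Algebra.smul_def, ha, TensorProduct.tmul_zero]
  obtain ⟨⟨a', ha'⟩, hg⟩ := local_key y' hy' hkill
  obtain ⟨a, s, rfl⟩ := IsLocalization.exists_mk'_eq p.primeCompl a'
  have hann : ∀ r : R, algebraMap R Rp (r * a) = 0 ↔ r ∈ p := fun r => by
    rw [← IsLocalization.AtPrime.to_map_mem_maximal_iff Rp p r, ← ha', map_mul,
      ← IsLocalization.mk'_spec Rp a s, ← mul_assoc, (IsLocalization.map_units Rp s).mul_left_eq_zero]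
  have hmin : p ∈ Ideal.minimalPrimes (LinearMap.ker (LinearMap.toSpanSingleton R R a)) := by
    refine ⟨⟨inferInstance, fun r hr => (hann r).mp ?_⟩, fun q ⟨hq, hqa⟩ hqp t ht => ?_⟩
    · rw [show r * a = 0 by simpa using hr, map_zero]
    · obtain ⟨c, hc⟩ := (IsLocalization.map_eq_zero_iff p.primeCompl Rp _).mp ((hann t).mpr ht)
      have : (c : R) * t ∈ q := hqa (by simpa [_root_.mul_assoc] using hc)
      exact (hq.mem_or_mem this).resolve_left fun h => c.2 (hqp h)
  obtain ⟨g₀, hg₀, hgnzd⟩ := hfib p a hmin (by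
    obtain ⟨z, hz, -⟩ := hg 0 (zero_mul _)
    exact ⟨Algebra.TensorProduct.cancelBaseChange R Rp Rp p.ResidueField B z, by simpa using hz⟩)
  have hgy : g₀ * y = 0 := (hmem g₀).mp (hle (by
    rw [Submodule.mem_colon_singleton, Submodule.mem_bot, smul_eq_mul]; exact hx g₀ hg₀))
  obtain ⟨z, hz, hgz⟩ := hg (1 ⊗ₜ g₀) (by simp [y', hgy])
  refine hz ((Algebra.TensorProduct.cancelBaseChange R Rp Rp p.ResidueField B).injective ?_)
  rw [map_zero]
  refine hgnzd _ ?_
  have h := congrArg (Algebra.TensorProduct.cancelBaseChange R Rp Rp p.ResidueField B) hgz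
  simpa using h

end Groth.Agent.PureSmooth29
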