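import Groth.Agent.Lib.PureSmooth29.SubgroupTransporter

/-!
# Connected fibres as subsets
-/

set_option autoImplicit false
set_option backward.isDefEq.respectTransparency false
set_option backward.isDefEq.respectTransparency.types false

universe u

open CategoryTheory Limits AlgebraicGeometry

noncomputable section

namespace Groth.Agent.PureSmooth29

theorem connectedSpace_fibre {X S : Scheme.{u}} (f : X ⟶ S)
    (h : ∀ s : S, _root_.IsConnected (f.base ⁻¹' {s})) (s : S) :
    ConnectedSpace ↥(pullback f (S.fromSpecResidueField s)) := by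
  haveI : Nonempty ↥(f.fiber s) := by
    obtain ⟨x, hx⟩ := (h s).nonempty
    obtain ⟨w, -⟩ : x ∈ Set.range (f.fiberι s) := by rw [Scheme.Hom.range_fiberι]; exact hx
    exact ⟨w⟩
  haveI : PreconnectedSpace ↥(f.fiber s) := by
    refine ⟨(f.fiberι s).isEmbedding.isInducing.isPreconnected_image.1 ?_⟩
    rw [Set.image_univ, Scheme.Hom.range_fiberι]
    exact (h s).isPreconnected
  exact @ConnectedSpace.mk _ _ ‹PreconnectedSpace ↥(f.fiber s)› ‹Nonempty ↥(f.fiber s)›

theorem fac_iff_isIso_map {S S' : Scheme.{u}} {X Y : Over S} (i : Y ⟶ X) [Mono i] (g : S' ⟶ S) :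
    Fac X.hom i.left g ↔ IsIso ((Over.pullback g).map i) := by
  let iT := (Over.pullback g).map i
  have hiT : iT.left ≫ pullback.fst X.hom g = pullback.fst Y.hom g ≫ i.left := by simp [iT]
  have hw : iT.left ≫ pullback.snd X.hom g = pullback.snd Y.hom g := Over.w iT
  constructor
  · rintro ⟨l, hl⟩
    have hc : l ≫ Y.hom = pullback.snd X.hom g ≫ g := by
      rw [← Over.w i, ← Category.assoc, hl, pullback.condition]
    let r : pullback X.hom g ⟶ pullback Y.hom g := pullback.lift l (pullback.snd X.hom g) hc
    haveI : Mono iT.left := inferInstanceAs (Mono ((Over.pullback g).map i).left)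
    haveI : IsIso iT.left := ⟨r, by
      rw [← cancel_mono iT.left, Category.assoc]
      suffices r ≫ iT.left = 𝟙 _ by rw [this]; exact (Category.comp_id _).trans (Category.id_comp _).symm
      apply pullback.hom_ext
      · rw [Category.assoc, hiT, pullback.lift_fst_assoc, hl, Category.id_comp]
      · rw [Category.assoc, hw, pullback.lift_snd, Category.id_comp], by
      apply pullback.hom_ext
      · rw [Category.assoc, hiT, pullback.lift_fst_assoc, hl, Category.id_comp]
      · rw [Category.assoc, hw, pullback.lift_snd, Category.id_comp]⟩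
    exact @isIso_of_reflects_iso _ _ _ _ _ _ iT (Over.forget S') (inferInstanceAs (IsIso iT.left)) _
  · intro hi
    haveI : IsIso iT.left := inferInstanceAs (IsIso ((Over.forget S').map iT))
    exact ⟨inv iT.left ≫ pullback.fst Y.hom g, by rw [Category.assoc, ← hiT, IsIso.inv_hom_id_assoc]⟩

end Groth.Agent.PureSmooth29
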