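import Groth.Agent.Lib.PureSmooth29.Fac
import Groth.Agent.Lib.WeilClosed.Agree

/-!
# The vanishing locus criterion for smooth morphisms with irreducible fibres
-/

set_option autoImplicit false
set_option linter.style.haveILetI false
set_option backward.isDefEq.respectTransparency false
set_option backward.isDefEq.respectTransparency.types false
set_option maxSynthPendingDepth 3

universe u

open CategoryTheory Limits AlgebraicGeometry TensorProduct

noncomputable section

namespace Groth.Agent.PureSmooth29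

/-- All base changes to fields are preirreducible. -/
def IrrFibres {S X : Scheme.{u}} (f : X ⟶ S) : Prop :=
  ∀ (K : Type u) [Field K] (k : Spec (CommRingCat.of K) ⟶ S), PreirreducibleSpace ↥(pullback f k)

theorem IrrFibres.isPreirreducible {S X : Scheme.{u}} {f : X ⟶ S} (h : IrrFibres f) (p : S) :
    IsPreirreducible (f.base ⁻¹' {p}) := by
  haveI := h (S.residueField p) (S.fromSpecResidueField p)
  have hr : Set.range (pullback.fst f (S.fromSpecResidueField p)) = f.base ⁻¹' {p} := by
    ext x
    constructor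
    · rintro ⟨z, rfl⟩
      show f (pullback.fst f (S.fromSpecResidueField p) z) = p
      rw [← Scheme.Hom.comp_apply, pullback.condition, Scheme.Hom.comp_apply]
      exact S.fromSpecResidueField_apply p _
    · intro hx
      obtain ⟨pt⟩ := (inferInstance : Nonempty (Spec (S.residueField p)))
      obtain ⟨z, hz, -⟩ := Scheme.Pullback.exists_preimage_pullback x pt
        (show f x = S.fromSpecResidueField p pt from hx.trans (S.fromSpecResidueField_apply p pt).symm)
      exact ⟨z, hz⟩
  rw [← hr, ← Set.image_univ]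
  exact PreirreducibleSpace.isPreirreducible_univ.image _ (Scheme.Hom.continuous _).continuousOn

theorem IrrFibres.baseChange {S X T : Scheme.{u}} {f : X ⟶ S} (h : IrrFibres f) (g : T ⟶ S) :
    IrrFibres (pullback.snd f g) := by
  intro K _ k
  haveI := h K (k ≫ g)
  exact (pullbackLeftPullbackSndIso f g k).hom.homeomorph.isOpenEmbedding.preirreducibleSpace

variable {A : Type u} [CommRing A] {X Y : Scheme.{u}} (f : X ⟶ Spec (CommRingCat.of A)) (y : Y ⟶ X)

theorem smooth_sect [Smooth f] (V : X.affineOpens) : Algebra.Smooth A (Sect f V) := by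
  have h : Smooth (Spec.map (sec f V)) := by rw [map_sec]; infer_instance
  exact RingHom.smooth_algebraMap.mp ((HasRingHomProperty.Spec_iff (P := @Smooth)).mp h)

theorem preirreducible_fibre (hirr : IrrFibres f) (V : X.affineOpens) (K : Type u) [Field K] [Algebra A K] :
    PreirreducibleSpace (PrimeSpectrum (K ⊗[A] Sect f V)) := by
  let k : Spec (CommRingCat.of K) ⟶ Spec (CommRingCat.of A) := Spec.map (CommRingCat.ofHom (algebraMap A K))
  haveI := hirr K k
  let m : pullback k (Spec.map (sec f V)) ⟶ pullback k f :=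
    pullback.map k (Spec.map (sec f V)) k f (𝟙 _) V.2.fromSpec (𝟙 _) (by simp)
      (by rw [map_sec, Category.comp_id])
  haveI : IsOpenImmersion m := inferInstance
  exact ((pullbackSpecIso A K (Sect f V)).inv ≫ m ≫
    (pullbackSymmetry k f).hom).isOpenEmbedding.preirreducibleSpace

theorem preirreducible_fibre_baseChange (hirr : IrrFibres f) (V : X.affineOpens) (R : Type u) [CommRing R]
    [Algebra A R] (q : Ideal R) [q.IsPrime] :
    PreirreducibleSpace (PrimeSpectrum (q.ResidueField ⊗[R] (R ⊗[A] Sect f V))) := by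
  haveI := preirreducible_fibre f hirr V q.ResidueField
  exact (PrimeSpectrum.homeomorphOfRingEquiv
    (Algebra.TensorProduct.cancelBaseChange A R R q.ResidueField (Sect f V)).toRingEquiv).isOpenEmbedding.preirreducibleSpace

/-- Restriction of sections, as a homomorphism of algebras. -/
def resSect {V W : X.affineOpens} (h : W.1 ≤ V.1) : Sect f V →ₐ[A] Sect f W :=
  { (X.presheaf.map (homOfLE h).op).hom with
    commutes' := fun a => by
      have : sec f V ≫ X.presheaf.map (homOfLE h).op = sec f W := Spec.map_injective (by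
        rw [Spec.map_comp, map_sec, map_sec, ← Category.assoc, V.2.map_fromSpec W.2])
      exact congr($(this).hom a) }

theorem van_mono [IsClosedImmersion y] {V W : X.affineOpens} (h : W.1 ≤ V.1) (R : Type u) [CommRing R]
    [Algebra A R] (hV : Van f y V R) : Van f y W R := by
  obtain ⟨l, hl⟩ := (van_iff f y V R).mp hV
  refine (van_iff f y W R).mpr ⟨Spec.map (CommRingCat.ofHom
    (Algebra.TensorProduct.map (AlgHom.id A R) (resSect f h)).toRingHom) ≫ l, ?_⟩
  rw [Category.assoc, hl, piece, piece, ← Category.assoc, ← Spec.map_comp,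
    ← V.2.map_fromSpec W.2 (homOfLE h).op, ← Category.assoc, ← Spec.map_comp]
  congr 2

theorem exists_pow_mul_eq_zero [IsClosedImmersion y] (U₀ V : X.affineOpens) (g : Sect f V)
    (hg : X.basicOpen (U := V.1) g ≤ U₀.1) (R : Type u) [CommRing R] [Algebra A R] (hU : Van f y U₀ R)
    (x : Sect f V) (hx : x ∈ idl f y V) : ∃ N : ℕ, (1 : R) ⊗ₜ[A] (g ^ N) * (1 : R) ⊗ₜ[A] x = 0 := by
  let W : X.affineOpens := X.affineBasicOpen (U := V) g
  have hW : Van f y W R := van_mono f y hg R hU
  have hle : W.1 ≤ V.1 := X.basicOpen_le g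
  have hx' : resSect f hle x ∈ idl f y W := by
    show _ ∈ y.ker.ideal W
    rw [← y.ker.map_ideal_basicOpen V g]
    exact Ideal.mem_map_of_mem _ hx
  letI : Algebra (Sect f V) (Sect f W) := (resSect f hle).toRingHom.toAlgebra
  haveI : IsScalarTower A (Sect f V) (Sect f W) :=
    IsScalarTower.of_algebraMap_eq fun a => ((resSect f hle).commutes a).symm
  haveI : IsLocalization.Away g (Sect f W) := V.2.isLocalization_basicOpen g
  haveI : IsLocalizedModule (Submonoid.powers g) (Algebra.linearMap (Sect f V) (Sect f W)) :=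
    (isLocalizedModule_iff_isLocalization).mpr (by
      rw [show Algebra.algebraMapSubmonoid (Sect f V) (Submonoid.powers g) = Submonoid.powers g by
        simp [Algebra.algebraMapSubmonoid]]
      assumption)
  have h0 : AlgebraTensorModule.rTensor A R (Algebra.linearMap (Sect f V) (Sect f W)) (x ⊗ₜ[A] (1 : R)) = 0 := by
    have h1 := congrArg (TensorProduct.comm A R (Sect f W)) (hW _ hx')
    rw [map_zero, TensorProduct.comm_tmul] at h1
    exact h1
  obtain ⟨⟨_, N, rfl⟩, hc⟩ := IsLocalizedModule.exists_of_eq (S := Submonoid.powers g)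
    (f := AlgebraTensorModule.rTensor A R (Algebra.linearMap (Sect f V) (Sect f W)))
    (x₁ := x ⊗ₜ[A] (1 : R)) (x₂ := 0) (h0.trans (map_zero _).symm)
  refine ⟨N, (TensorProduct.comm A R (Sect f V)).injective ?_⟩
  rw [Algebra.TensorProduct.tmul_mul_tmul, one_mul, TensorProduct.comm_tmul, map_zero]
  simpa [Submonoid.smul_def, TensorProduct.smul_tmul'] using hc

theorem exists_residue_ne (U₀ : X.affineOpens) (V : X.affineOpens) (hirr : IrrFibres f)
    (hmeet : ∀ p ∈ Set.range f, ∃ x ∈ U₀.1, f x = p) (v : X) (hv : v ∈ V.1) :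
    ∃ (g : Sect f V) (P : PrimeSpectrum (Sect f V)), X.basicOpen (U := V.1) g ≤ U₀.1 ∧
      g ∉ P.asIdeal ∧ P.comap (algebraMap A (Sect f V)) = f v := by
  obtain ⟨x, hx, hxv⟩ := hmeet (f v) ⟨v, rfl⟩
  obtain ⟨w, hw, hwV, hwU⟩ := hirr.isPreirreducible (f v) V.1 U₀.1 V.1.2 U₀.1.2 ⟨v, rfl, hv⟩ ⟨x, hxv, hx⟩
  obtain ⟨g, hgle, hwg⟩ := V.2.exists_basicOpen_le (V := U₀.1) ⟨w, hwU⟩ hwV
  obtain ⟨P, hP⟩ : w ∈ Set.range V.2.fromSpec := by rw [V.2.range_fromSpec]; exact hwV
  refine ⟨g, P, hgle, ?_, ?_⟩
  · have : P ∈ V.2.fromSpec ⁻¹ᵁ X.basicOpen g := by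
      show V.2.fromSpec P ∈ (X.basicOpen (U := V.1) g : Set X); rw [hP]; exact hwg
    rw [V.2.fromSpec_preimage_basicOpen] at this
    exact this
  · show Spec.map (sec f V) P = f v
    rw [map_sec, Scheme.Hom.comp_apply, hP]
    exact hw

/-- Equations vanishing on an open piece meeting all fibres vanish everywhere. -/
theorem van_all [Smooth f] [IsClosedImmersion y] (hirr : IrrFibres f) (U₀ : X.affineOpens)
    (hmeet : ∀ p ∈ Set.range f, ∃ x ∈ U₀.1, f x = p) (R : Type u) [CommRing R] [Algebra A R]
    (hU : Van f y U₀ R) (V : X.affineOpens) : Van f y V R := by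
  classical
  intro x hx
  haveI := smooth_sect f V
  choose g P hgle hgP hPv using fun v : V.1 => exists_residue_ne f U₀ V hirr hmeet v.1 v.2
  choose N hN using fun v => exists_pow_mul_eq_zero f y U₀ V (g v) (hgle v) R hU x hx
  let O : V.1 → Set (Spec (CommRingCat.of A)) := fun v => f '' (X.basicOpen (U := V.1) (g v) : Set X)
  have hO : ∀ v, IsOpen (O v) := fun v => f.isOpenMap _ (X.basicOpen (g v)).2
  have hmem : ∀ v : V.1, f v.1 ∈ O v := fun v => by
    refine ⟨V.2.fromSpec (P v), ?_, ?_⟩
    · show P v ∈ V.2.fromSpec ⁻¹ᵁ X.basicOpen (g v)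
      rw [V.2.fromSpec_preimage_basicOpen]; exact hgP v
    · rw [← Scheme.Hom.comp_apply, ← map_sec]; exact hPv v
  obtain ⟨T, hT⟩ := (V.2.isCompact.image f.continuous).elim_finite_subcover O hO (by
    rintro _ ⟨v, hv, rfl⟩
    exact Set.mem_iUnion.mpr ⟨⟨v, hv⟩, hmem ⟨v, hv⟩⟩)
  refine eq_zero_of_fibrewise (preirreducible_fibre_baseChange f hirr V R)
    (T.image fun v => (1 : R) ⊗ₜ[A] (g v ^ N v)) _ (fun z hz => ?_) fun q _ ⟨z, hz⟩ => ?_
  · obtain ⟨v, -, rfl⟩ := Finset.mem_image.mp hz
    exact hN v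
  · let c := Algebra.TensorProduct.cancelBaseChange A R R q.ResidueField (Sect f V)
    haveI : Nontrivial (q.ResidueField ⊗[A] Sect f V) := ⟨⟨c z, 0, fun h => hz (by simpa using h)⟩⟩
    obtain ⟨Z⟩ := (inferInstance : Nonempty (PrimeSpectrum (q.ResidueField ⊗[A] Sect f V)))
    let v₀ := PrimeSpectrum.comap (Algebra.TensorProduct.includeRight :
      Sect f V →ₐ[A] q.ResidueField ⊗[A] Sect f V).toRingHom Z
    let p : Ideal A := q.comap (algebraMap A R)
    have hv₀ : (Spec.map (sec f V) v₀).asIdeal = p := by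
      show Ideal.comap (algebraMap A (Sect f V)) (Ideal.comap _ Z.asIdeal) = p
      rw [Ideal.comap_comap, show (Algebra.TensorProduct.includeRight :
          Sect f V →ₐ[A] q.ResidueField ⊗[A] Sect f V).toRingHom.comp (algebraMap A (Sect f V)) =
          algebraMap A (q.ResidueField ⊗[A] Sect f V) from RingHom.ext fun a => (Algebra.TensorProduct.includeRight : Sect f V →ₐ[A] q.ResidueField ⊗[A] Sect f V).commutes a,
        Algebra.TensorProduct.algebraMap_def, ← Ideal.comap_comap,
        IsScalarTower.algebraMap_eq A R q.ResidueField, ← Ideal.comap_comap]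
      congr 1
      rw [Ideal.eq_bot_of_prime (Ideal.comap _ Z.asIdeal), ← RingHom.ker_eq_comap_bot,
        Ideal.ker_algebraMap_residueField]
    obtain ⟨v, hvT, w, hwD, hwf⟩ : ∃ v ∈ T, f (V.2.fromSpec v₀) ∈ O v := by
      simpa using hT ⟨_, (V.2.range_fromSpec).subset ⟨v₀, rfl⟩, rfl⟩
    obtain ⟨Q, hQ⟩ : w ∈ Set.range V.2.fromSpec := by
      rw [V.2.range_fromSpec]; exact X.basicOpen_le _ hwD
    have hgQ : g v ∉ Q.asIdeal := by
      have : Q ∈ V.2.fromSpec ⁻¹ᵁ X.basicOpen (g v) := by
        show V.2.fromSpec Q ∈ (X.basicOpen (U := V.1) (g v) : Set X); rw [hQ]; exact hwD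
      rw [V.2.fromSpec_preimage_basicOpen] at this
      exact this
    let P₁ : Ideal (Sect f V) := Q.asIdeal
    haveI : P₁.IsPrime := Q.isPrime
    have hQp : P₁.comap (algebraMap A (Sect f V)) = p := by
      rw [← hv₀]
      show (Spec.map (sec f V) Q).asIdeal = _
      rw [map_sec, Scheme.Hom.comp_apply, hQ, hwf, ← Scheme.Hom.comp_apply, ← map_sec]
    refine ⟨_, Finset.mem_image_of_mem _ hvT, fun h => ?_⟩
    letI : Algebra p.ResidueField q.ResidueField :=
      (Ideal.ResidueField.mapₐ (R := A) p q (Algebra.ofId A R) rfl).toRingHom.toAlgebra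
    haveI : IsScalarTower A p.ResidueField q.ResidueField :=
      IsScalarTower.of_algebraMap_eq fun a =>
        ((Ideal.ResidueField.mapₐ (R := A) p q (Algebra.ofId A R) rfl).commutes a).symm
    let c' := Algebra.TensorProduct.cancelBaseChange A p.ResidueField p.ResidueField q.ResidueField (Sect f V)
    have h1 : (1 : p.ResidueField) ⊗ₜ[A] (g v ^ N v) = 0 := by
      refine Algebra.TensorProduct.includeRight_injective (R := p.ResidueField) (A := q.ResidueField)
        (algebraMap p.ResidueField q.ResidueField).injective (c'.injective ?_)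
      have h2 := congrArg c h
      simp [c, c'] at h2 ⊢
      exact h2
    have h3 := congrArg (Algebra.TensorProduct.lift
      (Ideal.ResidueField.mapₐ (R := A) p P₁ (Algebra.ofId A (Sect f V)) hQp.symm)
      (IsScalarTower.toAlgHom A (Sect f V) P₁.ResidueField) fun _ _ => Commute.all _ _) h1
    rw [Algebra.TensorProduct.lift_tmul, map_one, one_mul, map_zero] at h3
    exact hgQ (Q.isPrime.mem_of_pow_mem _ (Ideal.algebraMap_residueField_eq_zero.mp h3))

/-- On a piece with a section, vanishing is detected by jointly injective families. -/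
theorem van_of_jointly_injective [Smooth f] (hirr : IrrFibres f) (U₀ : X.affineOpens)
    (ε : Sect f U₀ →ₐ[A] A) {R : Type u} [CommRing R] [Algebra A R] {ι : Type u} (C : ι → Type u)
    [∀ i, CommRing (C i)] [∀ i, Algebra A (C i)] (π : ∀ i, R →ₐ[A] C i)
    (hinj : ∀ r, (∀ i, π i r = 0) → r = 0) (h : ∀ i, Van f y U₀ (C i)) : Van f y U₀ R := by
  intro x hx
  haveI := smooth_sect f U₀
  letI : ∀ i, Algebra R (C i) := fun i => (π i).toRingHom.toAlgebra
  haveI : ∀ i, IsScalarTower A R (C i) := fun i =>
    IsScalarTower.of_algebraMap_eq fun a => ((π i).commutes a).symm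
  let εR : R ⊗[A] Sect f U₀ →ₐ[R] R :=
    Algebra.TensorProduct.lift (AlgHom.id R R) ((Algebra.ofId A R).comp ε) fun _ _ => Commute.all _ _
  refine eq_zero_of_mem_pow (preirreducible_fibre_baseChange f hirr U₀ R) εR _ fun n => ?_
  let I := RingHom.ker εR ^ n
  haveI : Module.Projective R ((R ⊗[A] Sect f U₀) ⧸ I) := projective_quotient_pow εR n
  let z : R ⊗[A] Sect f U₀ := 1 ⊗ₜ x
  have key : (1 : R) ⊗ₜ[R] (Ideal.Quotient.mk I z) = 0 :=
    WeilClosed.tensor_pi_eq_zero (R := R) (P := R) (M := fun i => C i)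
      (fun i => Algebra.linearMap R (C i)) (fun r hr => hinj r hr) _ fun i => by
      have h0 : (1 : C i) ⊗ₜ[R] z = 0 :=
        (Algebra.TensorProduct.cancelBaseChange A R R (C i) (Sect f U₀)).injective (by
          rw [map_zero, ← h i x hx]
          simp [z])
      have h1 := congrArg ((Ideal.Quotient.mkₐ R I).toLinearMap.lTensor (C i)) h0
      rw [map_zero] at h1
      simpa using h1
  have h2 := congrArg (TensorProduct.lid R _) key
  rw [TensorProduct.lid_tmul, one_smul, map_zero] at h2
  exact Ideal.Quotient.eq_zero_iff_mem.mp h2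

end Groth.Agent.PureSmooth29
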