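import Groth.Agent.Lib.PureSmooth29.Main
import Groth.Prelude.Def_SGA3x

/-!
# Closed Weil restrictions along essentially free morphisms
-/

set_option autoImplicit false
set_option linter.style.haveILetI false
set_option backward.isDefEq.respectTransparency false
set_option backward.isDefEq.respectTransparency.types false
set_option maxSynthPendingDepth 3

universe u

open CategoryTheory Limits AlgebraicGeometry TensorProduct

noncomputable section

namespace Groth.Agent.PureSmooth29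

variable {S X Y : Scheme.{u}} (f : X ⟶ S) (y : Y ⟶ X)

/-- A base change covered by affines with projective rings is cut out by an ideal. -/
theorem cutBy_of_projective [IsClosedImmersion y] {A : Type u} [CommRing A] (k : Spec (CommRingCat.of A) ⟶ S)
    {κ : Type u} (V : κ → (pullback f k).affineOpens) (hcov : ∀ ξ : ↥(pullback f k), ∃ i, ξ ∈ (V i).1)
    (hproj : ∀ i, Module.Projective A (Sect (pullback.snd f k) (V i))) :
    ∃ I, CutBy f y k I ∧ (LocallyOfFinitePresentation y → Finite κ → I.FG) := by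
  let f' := pullback.snd f k
  let y' := pullback.snd y (pullback.fst f k)
  haveI : IsClosedImmersion y' := inferInstance
  obtain ⟨I, hfg, hI⟩ := exists_ideal f' y' V (fun R _ _ h => fac_of_van f' y' V hcov R h)
    fun C _ _ π hinj h i x hx => by
      haveI := hproj i
      exact WeilClosed.tensor_pi_eq_zero (M := C) (fun j => (π j).toLinearMap) hinj _ fun j => by
        rw [LinearMap.rTensor_tmul, AlgHom.toLinearMap_apply, map_one]
        exact h j i x hx
  refine ⟨I, fun R _ _ => (fac_baseChange_iff f y k _).symm.trans (hI R), fun hy hfin => hfg (fun i => ?_) hfin⟩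
  haveI : LocallyOfFinitePresentation y' := MorphismProperty.pullback_snd _ _ hy
  exact LimH13.ifg_ker y' (V i)

theorem exists_cutBy_of_essentiallyFree [IsClosedImmersion y] (hf : SGA3x.IsEssentiallyFree f) (s : S) :
    ∃ U : S.affineOpens, s ∈ U.1 ∧ ∃ I, CutBy f y U.2.fromSpec I ∧
      (QuasiCompact f → LocallyOfFinitePresentation y → I.FG) := by
  obtain ⟨U, hsU, hU, S', _, g, hg, hgs, hV⟩ := hf s
  haveI := hg; haveI := hgs
  let φ : Γ(S, U) ⟶ Γ(S', ⊤) := Spec.preimage (S'.isoSpec.inv ≫ g ≫ hU.isoSpec.hom)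
  letI : Algebra Γ(S, U) Γ(S', ⊤) := φ.hom.toAlgebra
  haveI : Module.FaithfullyFlat Γ(S, U) Γ(S', ⊤) := by
    have hF : Flat (Spec.map φ) := by rw [Spec.map_preimage]; infer_instance
    have hS : Surjective (Spec.map φ) := by rw [Spec.map_preimage]; infer_instance
    exact RingHom.faithfullyFlat_algebraMap_iff.1 (RingHom.FaithfullyFlat.iff_flat_and_comap_surjective.2
      ⟨(HasRingHomProperty.Spec_iff (P := @Flat)).mp hF, hS.surj⟩)
  let k : Spec Γ(S', ⊤) ⟶ S := Spec.map φ ≫ hU.fromSpec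
  have hk : k = S'.isoSpec.inv ≫ g ≫ U.ι := by
    simp only [k, φ, Spec.map_preimage, Category.assoc, hU.isoSpec_hom_fromSpec]
  let e : pullback f k ⟶ pullback f (g ≫ U.ι) :=
    pullback.map f k f (g ≫ U.ι) (𝟙 _) S'.isoSpec.inv (𝟙 _) (by simp) (by rw [Category.comp_id, hk])
  haveI : IsIso e := inferInstance
  choose V hxV hVaff hproj using hV
  let V' : ↥(pullback f (g ≫ U.ι)) → (pullback f k).affineOpens := fun x => ⟨e ⁻¹ᵁ V x, (hVaff x).preimage e⟩
  have hproj' : ∀ x, Module.Projective Γ(S', ⊤) (Sect (pullback.snd f k) (V' x)) := fun x => by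
    letI := ((V x).ι ≫ pullback.snd f (g ≫ U.ι)).appTop.hom.toAlgebra
    haveI := hproj x
    let ψ : Γ(↑(V x), ⊤) ⟶ Γ(pullback f k, e ⁻¹ᵁ V x) := (V x).topIso.hom ≫ e.app (V x)
    haveI : IsIso ψ := inferInstance
    have hψ : ((V x).ι ≫ pullback.snd f (g ≫ U.ι)).appTop ≫ ψ = sec (pullback.snd f k) (V' x) := by
      refine Spec.map_injective ?_
      rw [map_sec, ← cancel_mono (isAffineOpen_top S').fromSpec,
        show ((V x).ι ≫ pullback.snd f (g ≫ U.ι)).appTop ≫ ψ =
          (e ≫ pullback.snd f (g ≫ U.ι)).appLE ⊤ (e ⁻¹ᵁ V x) le_top by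
          rw [← Scheme.Hom.appLE_comp_appLE e (pullback.snd f (g ≫ U.ι)) ⊤ (V x) (e ⁻¹ᵁ V x) le_top le_rfl,
            ← Scheme.Hom.app_eq_appLE, Scheme.Hom.appLE, Scheme.Hom.comp_appTop, Category.assoc, Category.assoc]
          congr 1
          simp only [ψ, Scheme.Opens.ι_appTop, Scheme.Opens.topIso_hom, ← Category.assoc, ← Functor.map_comp]
          rfl,
        (isAffineOpen_top S').SpecMap_appLE_fromSpec _ (V' x).2, IsAffineOpen.fromSpec_top,
        pullback.lift_snd, Category.assoc]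
    let eA : Γ(↑(V x), ⊤) ≃ₐ[Γ(S', ⊤)] Sect (pullback.snd f k) (V' x) :=
      { (asIso ψ).commRingCatIsoToRingEquiv with commutes' := fun a => congr($(hψ).hom a) }
    let eₗ : Γ(↑(V x), ⊤) ≃ₗ[Γ(S', ⊤)] Sect (pullback.snd f k) (V' x) := eA.toLinearEquiv
    exact Module.Projective.of_equiv eₗ
  have hcov : ∀ ξ : ↥(pullback f k), ∃ x, ξ ∈ (V' x).1 := fun ξ => ⟨e ξ, hxV (e ξ)⟩
  obtain ⟨κ, j, hj, hfin⟩ : ∃ (κ : Type u) (j : κ → ↥(pullback f (g ≫ U.ι))),
      (∀ ξ : ↥(pullback f k), ∃ i, ξ ∈ (V' (j i)).1) ∧ (QuasiCompact f → Finite κ) := by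
    by_cases hq : QuasiCompact f
    · haveI : CompactSpace ↥(pullback f k) := (quasiCompact_iff_compactSpace (pullback.snd f k)).mp inferInstance
      obtain ⟨T, hT⟩ := isCompact_univ.elim_finite_subcover (fun x => ((V' x).1 : Set ↥(pullback f k)))
        (fun x => (V' x).1.2) fun ξ _ => Set.mem_iUnion.2 (hcov ξ)
      refine ⟨T, Subtype.val, fun ξ => ?_, fun _ => inferInstance⟩
      obtain ⟨x, hx, hξ⟩ := Set.mem_iUnion₂.1 (hT (Set.mem_univ ξ))
      exact ⟨⟨x, hx⟩, hξ⟩
    · exact ⟨_, id, hcov, fun h => absurd h hq⟩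
  obtain ⟨I', hI', hfg⟩ := cutBy_of_projective f y k (fun i => V' (j i)) hj fun i => hproj' (j i)
  obtain ⟨hI, hfg'⟩ := cutBy_descent f y hU.fromSpec I' hI'
  exact ⟨⟨U, hU⟩, hsU, _, hI, fun hq hy => hfg' (hfg hy (hfin hq))⟩

end Groth.Agent.PureSmooth29
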