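import Groth.Agent.Lib.PureSmooth29.Zero
import Groth.Agent.Lib.WeilClosed.Local

/-!
# Factorisation of a base change through a closed subscheme
-/

set_option autoImplicit false
set_option linter.style.haveILetI false
set_option backward.isDefEq.respectTransparency false
set_option backward.isDefEq.respectTransparency.types false
set_option maxSynthPendingDepth 3

universe u

open CategoryTheory Limits AlgebraicGeometry TensorProduct

noncomputable section

namespace Groth.Agent.PureSmooth29

section General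

variable {S X Y : Scheme.{u}} (f : X ⟶ S) (y : Y ⟶ X)

/-- The base change of `f` along `g` factors through `y`. -/
def Fac {T : Scheme.{u}} (g : T ⟶ S) : Prop := ∃ l : pullback f g ⟶ Y, l ≫ y = pullback.fst f g

theorem Fac.comp {T T' : Scheme.{u}} (h : T' ⟶ T) {g : T ⟶ S} (hg : Fac f y g) : Fac f y (h ≫ g) := by
  obtain ⟨l, hl⟩ := hg
  refine ⟨pullback.map f (h ≫ g) f g (𝟙 _) h (𝟙 _) (by simp) (by simp) ≫ l, ?_⟩
  rw [Category.assoc, hl]
  simp

theorem Fac.of_cover [Mono y] {T : Scheme.{u}} (g : T ⟶ S) (𝒰 : T.OpenCover)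
    (h : ∀ i, Fac f y (𝒰.f i ≫ g)) : Fac f y g := by
  choose l hl using h
  let 𝒱 := Scheme.Pullback.openCoverOfRight 𝒰 f g
  let l' : ∀ i, 𝒱.X i ⟶ Y := fun i => l i
  have hl' : ∀ i, l' i ≫ y = 𝒱.f i ≫ pullback.fst f g := fun i => by
    dsimp only [l', 𝒱, Scheme.Pullback.openCoverOfRight_f, Scheme.Pullback.openCoverOfRight_X]
    rw [hl]
    simp
  refine ⟨Scheme.Cover.glueMorphisms 𝒱 l' (fun i k => ?_), ?_⟩
  · rw [← cancel_mono y, Category.assoc, Category.assoc, hl', hl', ← Category.assoc, pullback.condition,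
      Category.assoc]
  · refine Scheme.Cover.hom_ext 𝒱 _ _ fun i => ?_
    rw [← Category.assoc, Scheme.Cover.ι_glueMorphisms]
    exact hl' i

theorem isLocalProp_fac [Mono y] : WeilClosed.IsLocalProp (T := S) (Fac f y) where
  comp h g hg := hg.comp f y h
  cover {T'} g hg := by
    choose Z j hj hx hgood using hg
    let 𝒰 : T'.OpenCover :=
      { I₀ := T', X := Z, f := j, mem₀ := by
          rw [Scheme.presieve₀_mem_precoverage_iff]; exact ⟨fun z => ⟨z, hx z⟩, hj⟩ }
    exact Fac.of_cover f y g 𝒰 hgood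

end General

variable {A : Type u} [CommRing A] {X Y : Scheme.{u}} (f : X ⟶ Spec (CommRingCat.of A)) (y : Y ⟶ X)

/-- The structure map of the sections over an affine open. -/
def sec (V : X.affineOpens) : CommRingCat.of A ⟶ Γ(X, V.1) := Spec.preimage (V.2.fromSpec ≫ f)

theorem map_sec (V : X.affineOpens) : Spec.map (sec f V) = V.2.fromSpec ≫ f := Spec.map_preimage _

/-- The sections over an affine open, as an algebra over the base. -/
def Sect (_f : X ⟶ Spec (CommRingCat.of A)) (V : X.affineOpens) : Type u := Γ(X, V.1)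

instance (V : X.affineOpens) : CommRing (Sect f V) := inferInstanceAs (CommRing Γ(X, V.1))

instance (V : X.affineOpens) : Algebra A (Sect f V) := (sec f V).hom.toAlgebra

/-- The ideal of `y` on an affine open. -/
def idl (V : X.affineOpens) : Ideal (Sect f V) := y.ker.ideal V

/-- The equations of `y` on `V` vanish over `R`. -/
def Van (V : X.affineOpens) (R : Type u) [CommRing R] [Algebra A R] : Prop :=
  ∀ x ∈ idl f y V, (1 : R) ⊗ₜ[A] x = 0

/-- The piece over `V` of the base change to `R`. -/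
def piece (V : X.affineOpens) (R : Type u) [CommRing R] [Algebra A R] :
    Spec (CommRingCat.of (R ⊗[A] Sect f V)) ⟶ X :=
  Spec.map (CommRingCat.ofHom (R := Γ(X, V.1)) (S := R ⊗[A] Sect f V)
    (Algebra.TensorProduct.includeRight : Sect f V →ₐ[A] R ⊗[A] Sect f V).toRingHom) ≫ V.2.fromSpec

theorem piece_condition (V : X.affineOpens) (R : Type u) [CommRing R] [Algebra A R] :
    piece f V R ≫ f = Spec.map (CommRingCat.ofHom (Algebra.TensorProduct.includeLeftRingHom)) ≫
      Spec.map (CommRingCat.ofHom (algebraMap A R)) := by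
  rw [piece, Category.assoc, ← map_sec, ← Spec.map_comp, ← Spec.map_comp]
  congr 1
  ext a
  exact (AlgHom.commutes (Algebra.TensorProduct.includeRight : Sect f V →ₐ[A] R ⊗[A] Sect f V) a).trans
    (Algebra.TensorProduct.algebraMap_apply a)

theorem van_iff [IsClosedImmersion y] (V : X.affineOpens) (R : Type u) [CommRing R] [Algebra A R] :
    Van f y V R ↔ ∃ l, l ≫ y = piece f V R := by
  let ι : Γ(X, V.1) ⟶ CommRingCat.of (R ⊗[A] Sect f V) := CommRingCat.ofHom (R := Γ(X, V.1))
    (Algebra.TensorProduct.includeRight : Sect f V →ₐ[A] R ⊗[A] Sect f V).toRingHom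
  constructor
  · intro h
    let σ : CommRingCat.of (Γ(X, V.1) ⧸ y.ker.ideal V) ⟶ CommRingCat.of (R ⊗[A] Sect f V) :=
      CommRingCat.ofHom (Ideal.Quotient.lift (y.ker.ideal V) ι.hom fun x hx => h x hx)
    refine ⟨Spec.map σ ≫ y.ker.subschemeCover.f V ≫ IsClosedImmersion.lift y y.ker.subschemeι
      (Scheme.IdealSheafData.ker_subschemeι _).ge, ?_⟩
    simp only [Category.assoc, IsClosedImmersion.lift_fac, Scheme.IdealSheafData.subschemeCover_map_subschemeι]
    rw [piece]
    delta Scheme.IdealSheafData.glueDataObjι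
    simp only [Category.assoc, IsAffineOpen.isoSpec_inv_ι]
    rw [← Category.assoc, ← Spec.map_comp]
    rfl
  · rintro ⟨l, hl⟩ x hx
    let j := piece f V R
    have htop : ⊤ ≤ j ⁻¹ᵁ V.1 := fun p _ => by
      show (Spec.map ι ≫ V.2.fromSpec) p ∈ V.1
      rw [Scheme.Hom.comp_apply]
      exact (V.2.opensRange_fromSpec).le ⟨_, rfl⟩
    have h1 : j.appLE V.1 ⊤ htop = ι ≫ (Scheme.ΓSpecIso _).inv := by
      refine Spec.map_injective ((cancel_mono V.2.fromSpec).mp ?_)
      rw [V.2.SpecMap_appLE_fromSpec j (isAffineOpen_top _), IsAffineOpen.fromSpec_top, Spec.map_comp,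
        Category.assoc, Scheme.isoSpec_Spec_inv]
      rfl
    have h2 : j.appLE V.1 ⊤ htop x = 0 := by
      have hx' : y.app V.1 x = 0 := by
        change x ∈ y.ker.ideal V at hx
        rw [Scheme.Hom.ker_apply] at hx
        exact hx
      have h3 : (l ≫ y).appLE V.1 ⊤ (by rw [hl]; exact htop) x = 0 := by
        rw [Scheme.Hom.appLE, Scheme.Hom.comp_app, CommRingCat.comp_apply, CommRingCat.comp_apply, hx',
          map_zero, map_zero]
      convert h3 using 4
      exact hl.symm
    rw [h1, CommRingCat.comp_apply] at h2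
    have h4 := congrArg (Scheme.ΓSpecIso (CommRingCat.of (R ⊗[A] Sect f V))).hom h2
    rw [map_zero, ← CommRingCat.comp_apply, Iso.inv_hom_id] at h4
    exact h4

theorem van_of_fac [IsClosedImmersion y] (V : X.affineOpens) (R : Type u) [CommRing R] [Algebra A R]
    (h : Fac f y (Spec.map (CommRingCat.ofHom (algebraMap A R)))) : Van f y V R := by
  obtain ⟨l, hl⟩ := h
  refine (van_iff f y V R).mpr ⟨pullback.lift (piece f V R)
    (Spec.map (CommRingCat.ofHom Algebra.TensorProduct.includeLeftRingHom)) (piece_condition f V R) ≫ l, ?_⟩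
  rw [Category.assoc, hl, pullback.lift_fst]

theorem fac_of_van [IsClosedImmersion y] {κ : Type u} (V : κ → X.affineOpens)
    (hcov : ∀ ξ : X, ∃ k, ξ ∈ (V k).1) (R : Type u) [CommRing R] [Algebra A R]
    (h : ∀ k, Van f y (V k) R) : Fac f y (Spec.map (CommRingCat.ofHom (algebraMap A R))) := by
  choose l hl using fun k => (van_iff f y (V k) R).mp (h k)
  let g := Spec.map (CommRingCat.ofHom (algebraMap A R))
  let 𝒰 : X.OpenCover :=
    { I₀ := κ, X := fun k => Spec Γ(X, (V k).1), f := fun k => (V k).2.fromSpec, mem₀ := by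
        rw [Scheme.presieve₀_mem_precoverage_iff]
        refine ⟨fun ξ => ?_, fun k => inferInstance⟩
        obtain ⟨k, hk⟩ := hcov ξ
        exact ⟨k, by rwa [← SetLike.mem_coe, ← (V k).2.range_fromSpec] at hk⟩ }
  let 𝒱 := Scheme.Pullback.openCoverOfLeft 𝒰 f g
  let lk : ∀ k : κ, pullback ((V k).2.fromSpec ≫ f) g ⟶ Y := fun k =>
    (pullback.congrHom (map_sec f (V k)).symm rfl).hom ≫ (pullbackSymmetry _ _).hom ≫
      (pullbackSpecIso A R (Sect f (V k))).hom ≫ l k
  have hlk : ∀ k, lk k ≫ y = pullback.fst ((V k).2.fromSpec ≫ f) g ≫ (V k).2.fromSpec := fun k => by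
    simp only [lk, Category.assoc, hl k, piece]
    rw [← Category.assoc, ← Category.assoc, ← Category.assoc]
    congr 1
    simp only [Category.assoc]
    rw [← cancel_epi (pullback.congrHom (map_sec f (V k)).symm rfl).inv, Iso.inv_hom_id_assoc,
      ← cancel_epi (pullbackSymmetry (Spec.map (sec f (V k))) g).inv, Iso.inv_hom_id_assoc,
      ← cancel_epi (pullbackSpecIso A R (Sect f (V k))).inv, Iso.inv_hom_id_assoc]
    simp only [pullback.congrHom_inv, pullback.lift_fst, Category.comp_id, pullbackSymmetry_inv_comp_fst]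
    exact (pullbackSpecIso_inv_snd A R (Sect f (V k))).symm
  obtain ⟨l', hl'⟩ : ∃ l' : ∀ k, 𝒱.X k ⟶ Y, ∀ k, l' k ≫ y = 𝒱.f k ≫ pullback.fst f g :=
    ⟨lk, fun k => (hlk k).trans (pullback.lift_fst _ _ _).symm⟩
  refine ⟨Scheme.Cover.glueMorphisms 𝒱 l' (fun i k => ?_), ?_⟩
  · rw [← cancel_mono y, Category.assoc, Category.assoc, hl', hl', ← Category.assoc, pullback.condition,
      Category.assoc]
  · refine Scheme.Cover.hom_ext 𝒱 _ _ fun i => ?_
    rw [← Category.assoc, Scheme.Cover.ι_glueMorphisms]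
    exact hl' i

end Groth.Agent.PureSmooth29
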