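import Groth.Agent.Lib.PureSmooth29.Criterion
import Groth.Agent.Lib.LimH13.KerFG
import Groth.Agent.Lib.SmoothSection.Scheme
import Groth.Agent.Lib.FinCondH13.Components
import Groth.Agent.Lib.AbRigid.Connected
import Groth.Agent.Lib.SmoothReg17.Basic

/-!
# Closed Weil restrictions along smooth morphisms with irreducible fibres
-/

set_option autoImplicit false
set_option linter.style.haveILetI false
set_option backward.isDefEq.respectTransparency false
set_option backward.isDefEq.respectTransparency.types false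
set_option maxSynthPendingDepth 3

universe u

open CategoryTheory Limits AlgebraicGeometry TensorProduct

noncomputable section

namespace Groth.Agent.PureSmooth29

section Family

variable {A : Type u} [CommRing A] {X Y : Scheme.{u}} (f : X ⟶ Spec (CommRingCat.of A)) (y : Y ⟶ X)

theorem van_of_algHom (V : X.affineOpens) {R R' : Type u} [CommRing R] [Algebra A R] [CommRing R'] [Algebra A R']
    (φ : R →ₐ[A] R') (h : Van f y V R) : Van f y V R' := fun x hx => by
  simpa using congrArg (Algebra.TensorProduct.map φ (AlgHom.id A (Sect f V))) (h x hx)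

theorem tmul_eq_zero_of_mem_map (V : X.affineOpens) (J : Ideal A) {x : Sect f V}
    (hx : x ∈ J.map (algebraMap A (Sect f V))) : (1 : A ⧸ J) ⊗ₜ[A] x = 0 := by
  have hle : J.map (algebraMap A (Sect f V)) ≤
      RingHom.ker (Algebra.TensorProduct.includeRight : Sect f V →ₐ[A] (A ⧸ J) ⊗[A] Sect f V).toRingHom := by
    refine Ideal.map_le_iff_le_comap.2 fun a ha => ?_
    show (Algebra.TensorProduct.includeRight : Sect f V →ₐ[A] (A ⧸ J) ⊗[A] Sect f V) (algebraMap A _ a) = 0
    rw [AlgHom.commutes, Algebra.TensorProduct.algebraMap_apply, Ideal.Quotient.algebraMap_eq,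
      Ideal.Quotient.eq_zero_iff_mem.2 ha, TensorProduct.zero_tmul]
  exact hle hx

theorem mem_map_of_tmul_eq_zero (V : X.affineOpens) (J : Ideal A) {x : Sect f V}
    (hx : (1 : A ⧸ J) ⊗ₜ[A] x = 0) : x ∈ J.map (algebraMap A (Sect f V)) := by
  let K := J.map (algebraMap A (Sect f V))
  let q : A ⧸ J →ₐ[A] Sect f V ⧸ K := Ideal.Quotient.liftₐ J (Algebra.ofId A (Sect f V ⧸ K)) fun a ha => by
    show algebraMap A (Sect f V ⧸ K) a = 0
    exact Ideal.Quotient.eq_zero_iff_mem.2 (Ideal.mem_map_of_mem _ ha)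
  have h := congrArg (Algebra.TensorProduct.lift q (Ideal.Quotient.mkₐ A K) fun _ _ => Commute.all _ _) hx
  rw [Algebra.TensorProduct.lift_tmul, map_one, one_mul, map_zero] at h
  exact Ideal.Quotient.eq_zero_iff_mem.1 h

/-- If vanishing is detected by a family and by jointly injective maps, there is a smallest ideal. -/
theorem exists_ideal [IsClosedImmersion y] {κ : Type u} (V : κ → X.affineOpens)
    (hdet : ∀ (R : Type u) [CommRing R] [Algebra A R],
      (∀ k, Van f y (V k) R) → Fac f y (Spec.map (CommRingCat.ofHom (algebraMap A R))))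
    (hpure : ∀ {R : Type u} [CommRing R] [Algebra A R] {ι : Type u} (C : ι → Type u) [∀ i, CommRing (C i)]
      [∀ i, Algebra A (C i)] (π : ∀ i, R →ₐ[A] C i), (∀ r, (∀ i, π i r = 0) → r = 0) →
      (∀ i k, Van f y (V k) (C i)) → ∀ k, Van f y (V k) R) :
    ∃ I : Ideal A, ((∀ k, (idl f y (V k)).FG) → Finite κ → I.FG) ∧ ∀ (R : Type u) [CommRing R] [Algebra A R],
      Fac f y (Spec.map (CommRingCat.ofHom (algebraMap A R))) ↔ I ≤ RingHom.ker (algebraMap A R) := by
  classical
  let 𝒥 : Set (Ideal A) := {J | ∀ k, Van f y (V k) (A ⧸ J)}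
  let I := sInf 𝒥
  have hI : ∀ k, Van f y (V k) (A ⧸ I) := by
    refine hpure (R := A ⧸ I) (fun J : 𝒥 => A ⧸ J.1)
      (fun J => Ideal.Quotient.factorₐ A (sInf_le J.2)) (fun r hr => ?_) fun J k => J.2 k
    obtain ⟨a, rfl⟩ := Ideal.Quotient.mk_surjective r
    refine Ideal.Quotient.eq_zero_iff_mem.2 (Submodule.mem_sInf.2 fun J hJ => ?_)
    exact Ideal.Quotient.eq_zero_iff_mem.1 (hr ⟨J, hJ⟩)
  refine ⟨I, fun hfg hfin => ?_, fun R _ _ => ⟨fun hR => ?_, fun hle => ?_⟩⟩
  · have h1 : ∀ k, ∀ x ∈ idl f y (V k), ∃ T : Finset A, (T : Set A) ⊆ I ∧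
        x ∈ (Ideal.span (T : Set A)).map (algebraMap A (Sect f (V k))) := fun k x hx => by
      have h2 : x ∈ Submodule.span (Sect f (V k)) (algebraMap A (Sect f (V k)) '' (I : Set A)) :=
        mem_map_of_tmul_eq_zero f (V k) I (hI k x hx)
      obtain ⟨T', hT', hxT'⟩ := Submodule.mem_span_finite_of_mem_span h2
      obtain ⟨T, hT, rfl⟩ := Finset.subset_set_image_iff.1 hT'
      refine ⟨T, hT, ?_⟩
      rw [Ideal.map_span]
      rwa [Finset.coe_image] at hxT'
    choose T hTI hTx using h1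
    choose G hG using hfg
    haveI := Fintype.ofFinite κ
    let W : Finset A := Finset.univ.biUnion fun k => (G k).attach.biUnion fun x =>
      T k x.1 ((hG k).le (Ideal.subset_span x.2))
    have hWI : Ideal.span (W : Set A) ≤ I := Ideal.span_le.2 fun a ha => by
      obtain ⟨k, -, hk⟩ := Finset.mem_biUnion.1 ha
      obtain ⟨x, -, hx⟩ := Finset.mem_biUnion.1 hk
      exact hTI k x.1 _ hx
    refine ⟨W, le_antisymm hWI (sInf_le fun k => ?_)⟩
    intro x hx
    refine tmul_eq_zero_of_mem_map f (V k) _ ?_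
    rw [← hG k] at hx
    refine (Ideal.span_le.2 fun z hz => ?_) hx
    refine Ideal.map_mono (Ideal.span_mono fun a ha => ?_) (hTx k z ((hG k).le (Ideal.subset_span hz)))
    exact Finset.mem_biUnion.2 ⟨k, Finset.mem_univ _, Finset.mem_biUnion.2 ⟨⟨z, hz⟩, Finset.mem_attach _ _, ha⟩⟩
  · refine sInf_le fun k => ?_
    refine hpure (R := A ⧸ RingHom.ker (algebraMap A R)) (fun _ : PUnit.{u+1} => R)
      (fun _ => Ideal.Quotient.liftₐ _ (Algebra.ofId A R) fun a ha => ha) (fun r hr => ?_)
      (fun _ k => van_of_fac f y (V k) R hR) k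
    obtain ⟨a, rfl⟩ := Ideal.Quotient.mk_surjective r
    exact Ideal.Quotient.eq_zero_iff_mem.2 (hr PUnit.unit)
  · exact hdet R fun k => van_of_algHom f y (V k)
      (Ideal.Quotient.liftₐ I (Algebra.ofId A R) fun a ha => hle ha) (hI k)

end Family

section Base

variable {S X Y : Scheme.{u}} (f : X ⟶ S) (y : Y ⟶ X)

theorem fac_baseChange_iff {B T : Scheme.{u}} (k : B ⟶ S) (h : T ⟶ B) :
    Fac (pullback.snd f k) (pullback.snd y (pullback.fst f k)) h ↔ Fac f y (h ≫ k) := by
  constructor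
  · rintro ⟨l, hl⟩
    refine ⟨(pullbackLeftPullbackSndIso f k h).inv ≫ l ≫ pullback.fst y (pullback.fst f k), ?_⟩
    rw [Category.assoc, Category.assoc, pullback.condition, reassoc_of% hl,
      pullbackLeftPullbackSndIso_inv_fst]
  · rintro ⟨l, hl⟩
    exact ⟨pullback.lift ((pullbackLeftPullbackSndIso f k h).hom ≫ l) (pullback.fst _ _) (by
      rw [Category.assoc, hl, pullbackLeftPullbackSndIso_hom_fst]), pullback.lift_snd _ _ _⟩

theorem fac_iff_isIso [Mono y] {T : Scheme.{u}} (g : T ⟶ S) :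
    Fac f y g ↔ IsIso (pullback.snd y (pullback.fst f g)) := by
  constructor
  · rintro ⟨l, hl⟩
    exact ⟨pullback.lift l (𝟙 _) (by rw [hl, Category.id_comp]), by
      apply pullback.hom_ext
      · rw [Category.assoc, pullback.lift_fst, Category.id_comp, ← cancel_mono y, Category.assoc, hl,
          pullback.condition]
      · rw [Category.assoc, pullback.lift_snd, Category.comp_id, Category.id_comp], pullback.lift_snd _ _ _⟩
  · intro hi
    exact ⟨inv (pullback.snd y (pullback.fst f g)) ≫ pullback.fst _ _, by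
      rw [Category.assoc, pullback.condition, IsIso.inv_hom_id_assoc]⟩

/-- Factorisation through a monomorphism descends along faithfully flat ring maps. -/
theorem fac_descent [Mono y] {R : Type u} [CommRing R] (h : Spec (CommRingCat.of R) ⟶ S)
    (R' : Type u) [CommRing R'] [Algebra R R'] [Module.FaithfullyFlat R R']
    (hR' : Fac f y (Spec.map (CommRingCat.ofHom (algebraMap R R')) ≫ h)) : Fac f y h := by
  let α := Spec.map (CommRingCat.ofHom (algebraMap R R'))
  haveI : Flat α := (HasRingHomProperty.Spec_iff (P := @Flat)).mpr (RingHom.flat_algebraMap_iff.mpr inferInstance)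
  haveI : Surjective α := ⟨PrimeSpectrum.comap_surjective_of_faithfullyFlat⟩
  rw [fac_iff_isIso]
  let q := pullback.snd y (pullback.fst f h)
  let π : pullback f (α ≫ h) ⟶ pullback f h :=
    pullback.map f (α ≫ h) f h (𝟙 _) α (𝟙 _) (by simp) (by simp)
  have sq : IsPullback π (pullback.snd f (α ≫ h)) (pullback.snd f h) α := by
    refine IsPullback.of_right ?_ (pullback.lift_snd _ _ _) (IsPullback.of_hasPullback f h)
    rw [pullback.lift_fst, Category.comp_id]
    exact IsPullback.of_hasPullback f (α ≫ h)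
  obtain ⟨l, hl⟩ := hR'
  let m : pullback f (α ≫ h) ⟶ pullback y (pullback.fst f h) := pullback.lift l π (by
    rw [hl, pullback.lift_fst, Category.comp_id])
  have hsec : pullback.lift m (𝟙 _) (by rw [pullback.lift_snd, Category.id_comp]) ≫ pullback.snd q π = 𝟙 _ :=
    pullback.lift_snd _ _ _
  haveI : Mono (pullback.snd q π) := inferInstance
  haveI : IsIso (pullback.snd q π) :=
    ⟨_, (cancel_mono (pullback.snd q π)).mp (by rw [Category.assoc, hsec, Category.comp_id, Category.id_comp]), hsec⟩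
  exact MorphismProperty.of_pullback_snd_of_descendsAlong (P := MorphismProperty.isomorphisms Scheme)
    (Q := @Surjective ⊓ @Flat ⊓ @QuasiCompact) (f := q) (g := π)
    ⟨⟨MorphismProperty.of_isPullback sq.flip ‹Surjective α›, MorphismProperty.of_isPullback sq.flip ‹Flat α›⟩,
      MorphismProperty.of_isPullback sq.flip (inferInstance : QuasiCompact α)⟩ ‹IsIso (pullback.snd q π)›

/-- On `Spec A` the functor is cut out by `I`. -/
def CutBy {A : Type u} [CommRing A] (k : Spec (CommRingCat.of A) ⟶ S) (I : Ideal A) : Prop :=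
  ∀ (R : Type u) [CommRing R] [Algebra A R],
    Fac f y (Spec.map (CommRingCat.ofHom (algebraMap A R)) ≫ k) ↔ I ≤ RingHom.ker (algebraMap A R)

theorem cutBy_descent [Mono y] {A A' : Type u} [CommRing A] [CommRing A'] [Algebra A A']
    [Module.FaithfullyFlat A A'] (k : Spec (CommRingCat.of A) ⟶ S) (I' : Ideal A')
    (h : CutBy f y (Spec.map (CommRingCat.ofHom (algebraMap A A')) ≫ k) I') :
    CutBy f y k (I'.comap (algebraMap A A')) ∧ (I'.FG → (I'.comap (algebraMap A A')).FG) := by
  classical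
  let I := I'.comap (algebraMap A A')
  have hcomp : ∀ (R : Type u) [CommRing R] [Algebra A' R] [Algebra A R] [IsScalarTower A A' R],
      Spec.map (CommRingCat.ofHom (algebraMap A' R)) ≫ Spec.map (CommRingCat.ofHom (algebraMap A A')) =
        Spec.map (CommRingCat.ofHom (algebraMap A R)) := fun R _ _ _ _ => by
    rw [← Spec.map_comp, ← CommRingCat.ofHom_comp, ← IsScalarTower.algebraMap_eq]
  have hI' : I' = I.map (algebraMap A A') := by
    refine le_antisymm (fun a ha => ?_) Ideal.map_comap_le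
    let D := A' ⊗[A] (A' ⧸ I')
    have hfac : Fac f y (Spec.map (CommRingCat.ofHom (algebraMap A D)) ≫ k) := by
      have h0 : Fac f y (Spec.map (CommRingCat.ofHom (algebraMap A' (A' ⧸ I'))) ≫
          Spec.map (CommRingCat.ofHom (algebraMap A A')) ≫ k) := (h (A' ⧸ I')).2 (by
        rw [Ideal.Quotient.algebraMap_eq, Ideal.mk_ker])
      rw [← Category.assoc, hcomp] at h0
      have h1 := h0.comp f y (Spec.map (CommRingCat.ofHom
        (Algebra.TensorProduct.includeRight : A' ⧸ I' →ₐ[A] D).toRingHom))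
      rw [← Category.assoc, ← Spec.map_comp, ← CommRingCat.ofHom_comp] at h1
      convert h1 using 5
      exact ((Algebra.TensorProduct.includeRight : A' ⧸ I' →ₐ[A] D).comp_algebraMap).symm
    have hD : I' ≤ RingHom.ker (algebraMap A' D) := (h D).1 (by rw [← Category.assoc, hcomp D]; exact hfac)
    have h2 : (a ⊗ₜ[A] (1 : A' ⧸ I') : D) = 0 := hD ha
    let j : A ⧸ I →ₐ[A] A' ⧸ I' := Ideal.Quotient.liftₐ I (Algebra.ofId A (A' ⧸ I')) fun x hx =>
      Ideal.Quotient.eq_zero_iff_mem.2 hx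
    have hj : Function.Injective j := by
      refine (injective_iff_map_eq_zero _).2 fun r hr => ?_
      obtain ⟨x, rfl⟩ := Ideal.Quotient.mk_surjective r
      exact Ideal.Quotient.eq_zero_iff_mem.2 (Ideal.Quotient.eq_zero_iff_mem.1 hr :)
    have h3 : (a ⊗ₜ[A] (1 : A ⧸ I) : A' ⊗[A] (A ⧸ I)) = 0 := by
      refine Module.Flat.lTensor_preserves_injective_linearMap (M := A') j.toLinearMap hj ?_
      rw [map_zero, LinearMap.lTensor_tmul, AlgHom.toLinearMap_apply, map_one]
      exact h2
    let K := I.map (algebraMap A A')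
    have h4 := congrArg (Algebra.TensorProduct.lift (Ideal.Quotient.mkₐ A K)
      (Ideal.Quotient.liftₐ I (Algebra.ofId A (A' ⧸ K)) fun x hx =>
        Ideal.Quotient.eq_zero_iff_mem.2 (Ideal.mem_map_of_mem _ hx)) fun _ _ => Commute.all _ _) h3
    rw [Algebra.TensorProduct.lift_tmul, map_one, mul_one, map_zero] at h4
    exact Ideal.Quotient.eq_zero_iff_mem.1 h4
  refine ⟨fun R _ _ => ?_, fun hfg => ?_⟩
  · letI : Algebra A' (R ⊗[A] A') := Algebra.TensorProduct.rightAlgebra
    haveI : IsScalarTower A A' (R ⊗[A] A') := Algebra.TensorProduct.right_isScalarTower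
    let R' := R ⊗[A] A'
    have key : Fac f y (Spec.map (CommRingCat.ofHom (algebraMap A R)) ≫ k) ↔ I' ≤ RingHom.ker (algebraMap A' R') := by
      rw [← h R', ← Category.assoc, hcomp R', IsScalarTower.algebraMap_eq A R R', CommRingCat.ofHom_comp,
        Spec.map_comp, Category.assoc]
      exact ⟨fun hR => hR.comp f y _, fac_descent f y _ R'⟩
    rw [key, hI', Ideal.map_le_iff_le_comap, RingHom.comap_ker, ← IsScalarTower.algebraMap_eq,
      IsScalarTower.algebraMap_eq A R R', ← RingHom.comap_ker,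
      (RingHom.injective_iff_ker_eq_bot _).1 (FaithfulSMul.algebraMap_injective R R'), ← RingHom.ker_eq_comap_bot]
    rw [← hI']
  · obtain ⟨G, hG⟩ := hfg
    have h1 : ∀ z ∈ G, ∃ T : Finset A, (T : Set A) ⊆ I ∧ z ∈ (Ideal.span (T : Set A)).map (algebraMap A A') := by
      intro z hz
      have h2 : z ∈ Submodule.span A' (algebraMap A A' '' (I : Set A)) := by
        have : z ∈ I.map (algebraMap A A') := hI'.le (hG.le (Ideal.subset_span hz))
        exact this
      obtain ⟨T', hT', hzT'⟩ := Submodule.mem_span_finite_of_mem_span h2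
      obtain ⟨T, hT, rfl⟩ := Finset.subset_set_image_iff.1 hT'
      refine ⟨T, hT, ?_⟩
      rw [Ideal.map_span]
      rwa [Finset.coe_image] at hzT'
    choose T hTI hTz using h1
    let W := G.attach.biUnion fun z => T z.1 z.2
    have hWI : Ideal.span (W : Set A) ≤ I := Ideal.span_le.2 fun a ha => by
      obtain ⟨z, -, hz⟩ := Finset.mem_biUnion.1 ha
      exact hTI z.1 z.2 hz
    refine ⟨W, le_antisymm hWI ?_⟩
    have h5 : I' ≤ (Ideal.span (W : Set A)).map (algebraMap A A') := by
      rw [← hG]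
      refine Ideal.span_le.2 fun z hz => Ideal.map_mono (Ideal.span_mono fun a ha => ?_) (hTz z hz)
      exact Finset.mem_biUnion.2 ⟨⟨z, hz⟩, Finset.mem_attach _ _, ha⟩
    have h6 := Ideal.comap_mono (f := algebraMap A A') h5
    rwa [Ideal.comap_map_eq_self_of_faithfullyFlat] at h6

theorem hasMin_of_cutBy (U : S.affineOpens) {I : Ideal Γ(S, U.1)} (h : CutBy f y U.2.fromSpec I) :
    WeilClosed.goodIdeal (T := S) (Fac f y) U = I ∧ WeilClosed.HasMin (T := S) (Fac f y) U := by
  have hI : Fac f y (WeilClosed.quotι U I) := (h (Γ(S, U.1) ⧸ I)).2 (by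
    rw [Ideal.Quotient.algebraMap_eq, Ideal.mk_ker])
  have heq : WeilClosed.goodIdeal (T := S) (Fac f y) U = I := by
    refine le_antisymm (sInf_le ⟨_, _, hI, Ideal.mk_ker.symm⟩) (le_sInf ?_)
    rintro _ ⟨R, φ, hφ, rfl⟩
    letI : Algebra Γ(S, U.1) R := φ.hom.toAlgebra
    exact (h R).1 hφ
  exact ⟨heq, by rw [WeilClosed.HasMin, heq]; exact hI⟩

/-- If the functor is locally cut out by ideals, it is a closed subscheme. -/
theorem exists_closed [Mono y]
    (hloc : ∀ s : S, ∃ U : S.affineOpens, s ∈ U.1 ∧ ∃ I, CutBy f y U.2.fromSpec I ∧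
      (LocallyOfFinitePresentation y → I.FG)) :
    ∃ (T : Scheme.{u}) (t : T ⟶ S), IsClosedImmersion t ∧
      (∀ (S' : Scheme.{u}) (g : S' ⟶ S), (∃ g' : S' ⟶ T, g' ≫ t = g) ↔ Fac f y g) ∧
      (LocallyOfFinitePresentation y → LocallyOfFinitePresentation t) := by
  choose U hU I hI hfg using hloc
  obtain ⟨T, t, ht, hrep⟩ := WeilClosed.exists_closedSubscheme (isLocalProp_fac f y)
    fun s => ⟨U s, hU s, (hasMin_of_cutBy f y (U s) (hI s)).2⟩
  haveI := ht
  refine ⟨T, t, ht, fun _ g => hrep g, fun hy => ?_⟩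
  refine (HasRingHomProperty.iff_exists_appLE (P := @LocallyOfFinitePresentation)
    (RingHom.finitePresentation_stableUnderComposition.stableUnderCompositionWithLocalizationAway
      RingHom.finitePresentation_holdsForLocalizationAway).left).2 fun z => ?_
  let s := t z
  have hc : CutBy f y (U s).2.fromSpec (t.ker.ideal (U s)) := fun R _ _ => by
    rw [← hrep]
    constructor
    · rintro ⟨z, hz⟩ a ha
      rw [RingHom.mem_ker]
      have h1 : t.app (U s).1 a = 0 := by
        rw [Scheme.Hom.ker_apply] at ha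
        exact ha
      have htop : ⊤ ≤ (Spec.map (CommRingCat.ofHom (algebraMap Γ(S, (U s).1) R)) ≫ (U s).2.fromSpec) ⁻¹ᵁ (U s).1 :=
        fun p _ => by
          show ((Spec.map (CommRingCat.ofHom (algebraMap Γ(S, (U s).1) R)) ≫ (U s).2.fromSpec) p) ∈ (U s).1
          rw [Scheme.Hom.comp_apply]
          exact ((U s).2.opensRange_fromSpec).le ⟨_, rfl⟩
      have h2 : (Spec.map (CommRingCat.ofHom (algebraMap Γ(S, (U s).1) R)) ≫ (U s).2.fromSpec).appLE (U s).1 ⊤
          htop a = 0 := by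
        have h : (z ≫ t).appLE (U s).1 ⊤ (by rw [hz]; exact htop) a = 0 := by
          rw [Scheme.Hom.appLE, Scheme.Hom.comp_app, CommRingCat.comp_apply, CommRingCat.comp_apply, h1,
            map_zero, map_zero]
        convert h using 4
        exact hz.symm
      have h3 : ∀ e, (Spec.map (CommRingCat.ofHom (algebraMap Γ(S, (U s).1) R)) ≫ (U s).2.fromSpec).appLE (U s).1 ⊤ e =
          CommRingCat.ofHom (algebraMap Γ(S, (U s).1) R) ≫ (Scheme.ΓSpecIso _).inv := fun e => by
        refine Spec.map_injective ((cancel_mono (U s).2.fromSpec).mp ?_)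
        rw [(U s).2.SpecMap_appLE_fromSpec _ (isAffineOpen_top _), IsAffineOpen.fromSpec_top, Spec.map_comp,
          Category.assoc, Scheme.isoSpec_Spec_inv]
      rw [h3, CommRingCat.comp_apply] at h2
      have h4 := congrArg (Scheme.ΓSpecIso (CommRingCat.of R)).hom h2
      rw [map_zero, ← CommRingCat.comp_apply, Iso.inv_hom_id] at h4
      exact h4
    · intro hle
      refine ⟨Spec.map (CommRingCat.ofHom (Ideal.Quotient.lift _ (algebraMap Γ(S, (U s).1) R) hle)) ≫
        t.ker.subschemeCover.f (U s) ≫ IsClosedImmersion.lift t t.ker.subschemeι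
          (Scheme.IdealSheafData.ker_subschemeι _).ge, ?_⟩
      simp only [Category.assoc, IsClosedImmersion.lift_fac, Scheme.IdealSheafData.subschemeCover_map_subschemeι]
      delta Scheme.IdealSheafData.glueDataObjι
      simp only [Category.assoc, IsAffineOpen.isoSpec_inv_ι]
      rw [← Category.assoc, ← Spec.map_comp]
      rfl
  have heq : t.ker.ideal (U s) = I s := by
    rw [← (hasMin_of_cutBy f y (U s) hc).1, (hasMin_of_cutBy f y (U s) (hI s)).1]
  refine ⟨U s, ⟨t ⁻¹ᵁ (U s).1, (U s).2.preimage t⟩, hU s, le_rfl, ?_⟩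
  rw [← Scheme.Hom.app_eq_appLE]
  refine RingHom.FinitePresentation.of_surjective _ (t.app_surjective _ (U s).2) ?_
  rw [← Scheme.Hom.ker_apply, heq]
  exact hfg s hy

end Base

section Main

variable {S X Y : Scheme.{u}} (f : X ⟶ S) (y : Y ⟶ X)

/-- A base change with a section through an affine open is cut out by an ideal. -/
theorem cutBy_of_section [Smooth f] [IsClosedImmersion y] (hirr : IrrFibres f) {A : Type u} [CommRing A]
    (k : Spec (CommRingCat.of A) ⟶ S) (U₀ : (pullback f k).affineOpens) (σ : Spec (CommRingCat.of A) ⟶ pullback f k)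
    (hσ : σ ≫ pullback.snd f k = 𝟙 _) (hσU : ∀ p, σ p ∈ U₀.1) :
    ∃ I, CutBy f y k I ∧ (LocallyOfFinitePresentation y → I.FG) := by
  let f' := pullback.snd f k
  let y' := pullback.snd y (pullback.fst f k)
  haveI : IsClosedImmersion y' := inferInstance
  haveI : Smooth f' := inferInstance
  have hirr' : IrrFibres f' := hirr.baseChange k
  have hrange : Set.range σ ⊆ Set.range U₀.2.fromSpec := by
    rintro _ ⟨p, rfl⟩; rw [U₀.2.range_fromSpec]; exact hσU p
  let l := IsOpenImmersion.lift U₀.2.fromSpec σ hrange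
  have hl : l ≫ U₀.2.fromSpec = σ := IsOpenImmersion.lift_fac _ _ _
  have hε : sec f' U₀ ≫ Spec.preimage l = 𝟙 _ := Spec.map_injective (by
    rw [Spec.map_comp, Spec.map_preimage, map_sec, Spec.map_id, reassoc_of% hl]
    exact hσ)
  let ε : Sect f' U₀ →ₐ[A] A :=
    { (Spec.preimage l).hom with commutes' := fun a => congr($(hε).hom a) }
  have hmeet : ∀ p ∈ Set.range f', ∃ x ∈ U₀.1, f' x = p := fun p _ => ⟨σ p, hσU p, by
    rw [← Scheme.Hom.comp_apply, hσ]; rfl⟩
  have hdet : ∀ (R : Type u) [CommRing R] [Algebra A R], (∀ _ : PUnit.{u + 1}, Van f' y' U₀ R) →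
      Fac f' y' (Spec.map (CommRingCat.ofHom (algebraMap A R))) := fun R _ _ hR => by
    refine fac_of_van f' y' (fun V : (pullback f k).affineOpens => V) (fun ξ => ?_) R
      fun V => van_all f' y' hirr' U₀ hmeet R (hR PUnit.unit) V
    obtain ⟨V, hV, hξ, -⟩ := exists_isAffineOpen_mem_and_subset (X := pullback f k) (U := ⊤) (x := ξ) trivial
    exact ⟨⟨V, hV⟩, hξ⟩
  obtain ⟨I, hfg, hI⟩ := exists_ideal f' y' (fun _ : PUnit.{u + 1} => U₀) hdet
    fun C _ _ π hinj h _ => van_of_jointly_injective f' y' hirr' U₀ ε C π hinj fun i => h i PUnit.unit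
  refine ⟨I, fun R _ _ => (fac_baseChange_iff f y k _).symm.trans (hI R), fun hy => hfg (fun _ => ?_) inferInstance⟩
  haveI : LocallyOfFinitePresentation y' := MorphismProperty.pullback_snd _ _ hy
  exact LimH13.ifg_ker y' U₀

theorem exists_cutBy [Smooth f] [IsClosedImmersion y] (hirr : IrrFibres f) (x : X) :
    ∃ U : S.affineOpens, f x ∈ U.1 ∧ ∃ I, CutBy f y U.2.fromSpec I ∧ (LocallyOfFinitePresentation y → I.FG) := by
  obtain ⟨S', g, s', hg, hgs, h, hh⟩ := SmoothSection.exists_etale_section f x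
  haveI := hg
  obtain ⟨U₁, hU₁, hsU₁, -⟩ := exists_isAffineOpen_mem_and_subset (X := S) (U := ⊤) (x := f x) trivial
  obtain ⟨U₀, hU₀, hxU₀, hU₀le⟩ := exists_isAffineOpen_mem_and_subset (X := X) (U := f ⁻¹ᵁ U₁) (x := h s')
    (by show f (h s') ∈ U₁; rw [← Scheme.Hom.comp_apply, hh, hgs]; exact hsU₁)
  obtain ⟨W, hW, hsW, hWle⟩ := exists_isAffineOpen_mem_and_subset (X := S') (U := h ⁻¹ᵁ U₀ ⊓ g ⁻¹ᵁ U₁) (x := s')
    ⟨hxU₀, show g s' ∈ U₁ by rw [hgs]; exact hsU₁⟩
  let O : S.Opens := ⟨g '' (W : Set S'), g.isOpenMap _ W.2⟩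
  obtain ⟨a, haO, hsa⟩ := hU₁.exists_basicOpen_le (V := O) ⟨f x, ⟨s', hsW, hgs⟩⟩ hsU₁
  let D : S.affineOpens := S.affineBasicOpen (U := ⟨U₁, hU₁⟩) a
  have hWg : W ≤ g ⁻¹ᵁ U₁ := fun z hz => (hWle hz).2
  let W₃ : S'.affineOpens := S'.affineBasicOpen (U := ⟨W, hW⟩) (g.appLE U₁ W hWg a)
  have hW₃ : W₃.1 = W ⊓ g ⁻¹ᵁ D.1 := by
    show S'.basicOpen (g.appLE U₁ W hWg a) = _
    rw [Scheme.Hom.appLE, CommRingCat.comp_apply, Scheme.basicOpen_res, ← Scheme.preimage_basicOpen]
    rfl
  have hW₃g : W₃.1 ≤ g ⁻¹ᵁ D.1 := hW₃.le.trans inf_le_right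
  letI : Algebra Γ(S, D.1) Γ(S', W₃.1) := (g.appLE D.1 W₃.1 hW₃g).hom.toAlgebra
  have hmap : Spec.map (g.appLE D.1 W₃.1 hW₃g) ≫ D.2.fromSpec = W₃.2.fromSpec ≫ g :=
    IsAffineOpen.SpecMap_appLE_fromSpec g D.2 W₃.2 hW₃g
  haveI : Module.FaithfullyFlat Γ(S, D.1) Γ(S', W₃.1) := by
    refine RingHom.faithfullyFlat_algebraMap_iff.1 (RingHom.FaithfullyFlat.iff_flat_and_comap_surjective.2
      ⟨HasRingHomProperty.appLE @Flat g inferInstance D W₃ hW₃g, fun p => ?_⟩)
    have hp : D.2.fromSpec p ∈ D.1 := D.2.range_fromSpec.subset ⟨p, rfl⟩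
    obtain ⟨w, hw, hwp⟩ := haO hp
    obtain ⟨q, hq⟩ : w ∈ Set.range W₃.2.fromSpec := by
      rw [W₃.2.range_fromSpec, hW₃]
      exact ⟨hw, by show g w ∈ D.1; rw [hwp]; exact hp⟩
    refine ⟨q, D.2.fromSpec.isOpenEmbedding.injective ?_⟩
    show D.2.fromSpec (Spec.map (g.appLE D.1 W₃.1 hW₃g) q) = _
    rw [← Scheme.Hom.comp_apply, hmap, Scheme.Hom.comp_apply, hq, hwp]
  let k : Spec Γ(S', W₃.1) ⟶ S := Spec.map (g.appLE D.1 W₃.1 hW₃g) ≫ D.2.fromSpec
  have hk : Set.range k ⊆ Set.range U₁.ι := by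
    rintro _ ⟨q, rfl⟩
    rw [Scheme.Opens.range_ι, show k q = g (W₃.2.fromSpec q) by rw [← Scheme.Hom.comp_apply, ← hmap]]
    exact (hWle (hW₃.le (W₃.2.range_fromSpec.subset ⟨q, rfl⟩)).1).2
  let r' := IsOpenImmersion.lift U₁.ι k hk
  have hr' : r' ≫ U₁.ι = k := IsOpenImmersion.lift_fac _ _ _
  let r := f.resLE U₁ U₀ hU₀le
  let m : pullback r r' ⟶ pullback f k :=
    pullback.map r r' f k U₀.ι (𝟙 _) U₁.ι (Scheme.Hom.resLE_comp_ι _ _) (by rw [Category.id_comp, hr'])
  haveI : IsOpenImmersion m := inferInstance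
  haveI : IsAffine U₁.toScheme := hU₁
  haveI : IsAffine U₀.toScheme := hU₀
  let U₀' : (pullback f k).affineOpens := ⟨m.opensRange, isAffineOpen_opensRange m⟩
  let σ : Spec Γ(S', W₃.1) ⟶ pullback f k := pullback.lift (W₃.2.fromSpec ≫ h) (𝟙 _)
    (by rw [Category.id_comp, Category.assoc, hh]; exact hmap.symm)
  obtain ⟨I', hI', hfg⟩ := cutBy_of_section f y hirr k U₀' σ (pullback.lift_snd _ _ _) fun p => by
    have hp : h (W₃.2.fromSpec p) ∈ U₀ := (hWle (hW₃.le (W₃.2.range_fromSpec.subset ⟨p, rfl⟩)).1).1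
    show σ p ∈ Set.range m
    rw [Scheme.Pullback.range_map]
    refine ⟨?_, ?_⟩
    · rw [Set.mem_preimage, ← Scheme.Hom.comp_apply, pullback.lift_fst, Scheme.Hom.comp_apply,
        Scheme.Opens.range_ι]
      exact hp
    · exact ⟨_, rfl⟩
  obtain ⟨hI, hfg'⟩ := cutBy_descent f y D.2.fromSpec I' hI'
  exact ⟨D, hsa, _, hI, fun hy => hfg' (hfg hy)⟩

/-- The Weil restriction of a closed subscheme along a smooth surjection with irreducible fibres. -/
theorem exists_closed_of_smooth [Smooth f] [Surjective f] [IsClosedImmersion y] (hirr : IrrFibres f) :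
    ∃ (T : Scheme.{u}) (t : T ⟶ S), IsClosedImmersion t ∧
      (∀ (S' : Scheme.{u}) (g : S' ⟶ S), (∃ g' : S' ⟶ T, g' ≫ t = g) ↔ Fac f y g) ∧
      (LocallyOfFinitePresentation y → LocallyOfFinitePresentation t) := by
  refine exists_closed f y fun s => ?_
  obtain ⟨x, rfl⟩ := f.surjective s
  exact exists_cutBy f y hirr x

/-- Geometrically irreducible morphisms have irreducible fibres. -/
theorem irrFibres_of_geometricallyIrreducible [GeometricallyIrreducible f] : IrrFibres f := fun K _ k => by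
  haveI : IrreducibleSpace ↥(pullback f k) :=
    GeometricallyIrreducible.geometrically_irreducibleSpace _ _ _ (IsPullback.of_hasPullback f k)
  infer_instance

/-- Smooth geometrically connected morphisms have irreducible fibres. -/
theorem irrFibres_of_geometricallyConnected [Smooth f] [GeometricallyConnected f] : IrrFibres f := fun K _ k => by
  haveI : ConnectedSpace ↥(pullback f k) :=
    GeometricallyConnected.geometrically_connectedSpace _ _ _ (IsPullback.of_hasPullback f k)
  haveI : IsLocallyNoetherian (pullback f k) := LocallyOfFiniteType.isLocallyNoetherian (pullback.snd f k)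
  have hW : ∀ z : ↥(pullback f k), ∃ U : (pullback f k).Opens, z ∈ U ∧ IsIrreducible (U : Set ↥(pullback f k)) :=
    fun z => FinCondH13.exists_irreducible_nhd z (by
      haveI := SmoothReg17.isDomain_stalk (pullback.snd f k) z
      rw [nilradical_eq_zero]
      exact Ideal.isPrime_bot)
  choose U hzU hU using hW
  haveI := AbRigid.irreducibleSpace_of_cover (fun z => (U z : Set ↥(pullback f k))) (fun z => (U z).2) hU
    (Set.eq_univ_of_forall fun z => Set.mem_iUnion.2 ⟨z, hzU z⟩)
  infer_instance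

end Main

end Groth.Agent.PureSmooth29
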