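import Groth.Agent.Lib.PureSmooth29.Main
import Groth.Agent.Lib.RigidGIT19.Basic
import Groth.Agent.Lib.SchBasic.Basic

/-!
# Loci where a family of points lies in a closed subscheme
-/

set_option autoImplicit false
set_option linter.style.haveILetI false
set_option backward.isDefEq.respectTransparency false
set_option backward.isDefEq.respectTransparency.types false
set_option maxSynthPendingDepth 3

universe u

open CategoryTheory Limits AlgebraicGeometry MonoidalCategory CartesianMonoidalCategory

noncomputable section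

namespace Groth.Agent.PureSmooth29

variable {S : Scheme.{u}} {G Y H Y' : Over S} (φ : Y ⊗ G ⟶ H) (y' : Y' ⟶ H)

/-- The points of `G` carrying all of `Y` into `Y'` form a closed subscheme. -/
theorem exists_closed_over [IsClosedImmersion y'.left] [Smooth Y.hom]
    (hYc : ∀ s : S, ConnectedSpace ↥(Red.geomFibre s Y).left) :
    ∃ (C : Over S) (c : C ⟶ G), IsClosedImmersion c.left ∧
      (∀ (X : Over S) (g : X ⟶ G), (∃ z : X ⟶ C, z ≫ c = g) ↔
        ∀ (X' : Over S) (x : X' ⟶ X) (a : X' ⟶ Y), ∃ a' : X' ⟶ Y', lift a (x ≫ g) ≫ φ = a' ≫ y') ∧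
      (LocallyOfFinitePresentation y'.left → LocallyOfFinitePresentation c.left) := by
  haveI : GeometricallyConnected Y.hom := RigidGIT19.geometricallyConnected_of_geomFibre Y.hom hYc
  let f : (Y ⊗ G).left ⟶ G.left := pullback.snd Y.hom G.hom
  haveI : Smooth f := inferInstanceAs (Smooth (pullback.snd Y.hom G.hom))
  haveI : GeometricallyConnected f := inferInstanceAs (GeometricallyConnected (pullback.snd Y.hom G.hom))
  let y := pullback.fst φ.left y'.left
  haveI : IsClosedImmersion y := inferInstance
  obtain ⟨T, t, ht, hrep, hfp⟩ := exists_closed_of_smooth f y (irrFibres_of_geometricallyConnected f)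
  refine ⟨Over.mk (t ≫ G.hom), Over.homMk t, ht, fun X g => ?_, fun hy => hfp (MorphismProperty.pullback_fst _ _ hy)⟩
  have h0 : (∃ z : X ⟶ Over.mk (t ≫ G.hom), z ≫ Over.homMk t = g) ↔ Fac f y g.left := by
    rw [← hrep]
    constructor
    · rintro ⟨z, rfl⟩
      exact ⟨z.left, rfl⟩
    · rintro ⟨z, hz⟩
      exact ⟨Over.homMk z (by show z ≫ t ≫ G.hom = X.hom; rw [reassoc_of% hz, Over.w g]), Over.OverMorphism.ext hz⟩
  rw [h0]
  constructor
  · rintro ⟨l, hl⟩ X' x a
    let p := lift a (x ≫ g)
    let q : X'.left ⟶ pullback f g.left := pullback.lift p.left x.left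
      (congrArg CommaMorphism.left (lift_snd a (x ≫ g)))
    have hq : (q ≫ l ≫ pullback.snd φ.left y'.left) ≫ y'.left = (p ≫ φ).left := by
      simp only [Category.assoc, Over.comp_left, ← pullback.condition]
      rw [reassoc_of% hl, pullback.lift_fst_assoc]
    refine ⟨Over.homMk (q ≫ l ≫ pullback.snd φ.left y'.left) ?_, Over.OverMorphism.ext hq.symm⟩
    rw [← Over.w y', ← Category.assoc, hq, Over.w]
  · intro h
    let X' : Over S := Over.mk (pullback.snd f g.left ≫ X.hom)
    let x : X' ⟶ X := Over.homMk (pullback.snd f g.left)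
    let p : X' ⟶ Y ⊗ G := Over.homMk (pullback.fst f g.left) (by
      show pullback.fst f g.left ≫ (Y ⊗ G).hom = pullback.snd f g.left ≫ X.hom
      rw [← Over.w (snd Y G), ← Category.assoc]
      show (pullback.fst f g.left ≫ f) ≫ G.hom = _
      rw [pullback.condition, Category.assoc, Over.w g])
    obtain ⟨a', ha'⟩ := h X' x (p ≫ fst Y G)
    have hp : lift (p ≫ fst Y G) (x ≫ g) = p := by
      apply CartesianMonoidalCategory.hom_ext
      · rw [lift_fst]
      · rw [lift_snd]
        exact Over.OverMorphism.ext pullback.condition.symm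
    rw [hp] at ha'
    exact ⟨pullback.lift (pullback.fst f g.left) a'.left (congrArg CommaMorphism.left ha'), pullback.lift_fst _ _ _⟩

end Groth.Agent.PureSmooth29
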